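import Groth.Agent.L03.VBPn.Jump.Restrict
import Groth.Agent.L21.P1.Split
import Groth.Agent.L03.PlaneProj.Line
import Groth.Agent.L12.StabLimit
import Groth.Agent.L19.LimMod.Zero
import Groth.Agent.L03.VBPn.CokerSimple
import Groth.Agent.L22.SyzTilde.Chase
import Groth.Agent.L21.InvHom

/-!
# The splitting type on a line
-/

set_option autoImplicit false
set_option linter.style.haveILetI false
set_option linter.unusedSectionVars false
set_option backward.isDefEq.respectTransparency false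
set_option backward.isDefEq.respectTransparency.types false

universe u

open CategoryTheory CategoryTheory.Limits AlgebraicGeometry TopologicalSpace Opposite
open Groth.L22.SyzTilde (G S PS Fr)
open Groth.L21.P1 (sumO O h_sumO h_O)
open Groth.L22.Reg (O')

noncomputable section

namespace Groth.L03.VBPn.Jump

variable {k : Type u} [Field k] [IsAlgClosed k] {m : ℕ} (P : Pts k m)
  (i : CohB1.ProjSpace 1 k ⟶ CohB1.ProjSpace 2 k) [IsClosedImmersion i]

variable (k) in
/-- `O(d)` on the line. -/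
abbrev OL (d : ℤ) : (CohB1.ProjSpace 1 k).Modules := Twist.twistProjSpace 1 k d

variable (k) in
/-- A sum of `O(d)`. -/
abbrev sumL {r : ℕ} (d : Fin r → ℤ) : (CohB1.ProjSpace 1 k).Modules := ⨁ fun l => OL k (d l)

/-- Pullback to the line. -/
abbrev PB : (CohB1.ProjSpace 2 k).Modules ⥤ (CohB1.ProjSpace 1 k).Modules := Scheme.Modules.pullback i

theorem euler_sumL {r : ℕ} (d : Fin r → ℤ) :
    Curv2.euler k (CohB1.ProjSpace 1 k) (sumL k d) = ∑ l, (d l + 1) := by
  haveI := Groth.L22.Reg.isProper_over_proj (k := k) (n := 1)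
  have h : Curv2.euler k (CohB1.ProjSpace 1 k) (sumL k d) =
      (Groth.L21.RR.h k 0 (sumO k d) : ℤ) - Groth.L21.RR.h k 1 (sumO k d) :=
    Groth.L21.RR.euler_eq k (Groth.L21.P1.topologicalKrullDim_le k) _
  rw [h, h_sumO, h_sumO]
  push_cast
  rw [← Finset.sum_sub_distrib]
  exact Finset.sum_congr rfl fun l _ => by rw [(h_O k (d l)).1, (h_O k (d l)).2]; omega

theorem euler_OL (d : ℤ) : Curv2.euler k (CohB1.ProjSpace 1 k) (OL k d) = d + 1 := Groth.L21.P1.euler_O k d

theorem isCoh_OL (d : ℤ) : Coh.IsCoh (OL k d) := Groth.L21.P1.isCoh_O k d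

/-- The cokernel of a nonzero map of invertible sheaves on the line. -/
theorem euler_coker_OL {a b : ℤ} (θ1 : OL k a ⟶ OL k b) (h : θ1 ≠ 0) :
    Curv2.euler k (CohB1.ProjSpace 1 k) (cokernel θ1) = b - a := by
  have hcoh := (Groth.L16.CohKernel.isCoh_kernel_cokernel (isCoh_OL a) (isCoh_OL b) θ1).2
  haveI := Groth.L22.Reg.isProper_over_proj (k := k) (n := 1)
  have hm : Mono θ1 := by
    haveI : IsIntegral (CohB1.ProjSpace 1 k) := Groth.L16.ProjSpace.isIntegral 1 k
    haveI : AlgebraicGeometry.IsNoetherian (CohB1.ProjSpace 1 k) :=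
      Groth.L21.RR.isNoetherian_of_proper (X := CohB1.ProjSpace 1 k) k
    exact Groth.L22.PDual.mono_of_ne_zero (Groth.L16.ProjTwist.isInvertible_twistProjSpace 1 k a)
      (Groth.L16.ProjTwist.isInvertible_twistProjSpace 1 k b) h
  let T : ShortComplex (CohB1.ProjSpace 1 k).Modules := ShortComplex.mk θ1 (cokernel.π θ1) (cokernel.condition θ1)
  have hS : T.ShortExact :=
    { exact := ShortComplex.exact_cokernel θ1
      mono_f := hm
      epi_g := inferInstanceAs (Epi (cokernel.π θ1)) }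
  have h := Groth.L03.Euler.euler_add (k := k) hS (isCoh_OL a) (isCoh_OL b) hcoh
  change Curv2.euler k (CohB1.ProjSpace 1 k) (OL k b) = Curv2.euler k (CohB1.ProjSpace 1 k) (OL k a) +
    Curv2.euler k (CohB1.ProjSpace 1 k) (cokernel θ1) at h
  rw [euler_OL, euler_OL] at h
  omega

set_option synthInstance.maxHeartbeats 100000 in
/-- The splitting type from a nonzero map to `O` with cokernel of length `a`. -/
theorem degree_eq {d : Fin 2 → ℤ} (hsum : d 0 + d 1 = 0) (hd0 : 0 ≤ d 0) (θ : sumL k d ⟶ OL k 0) (hθ : θ ≠ 0) :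
    Curv2.euler k (CohB1.ProjSpace 1 k) (cokernel θ) = d 0 := by
  classical
  haveI := Groth.L22.Reg.isProper_over_proj (k := k) (n := 1)
  rcases hd0.lt_or_eq with hpos | hzero
  · obtain ⟨e1⟩ := Groth.L03.VBPn.nonempty_inv_twist 1 k (d 0)
    obtain ⟨e2⟩ := Groth.L22.Reg.nonempty_O_add (n := 1) (R := k) (show (0 : ℤ) + -(d 0) = -(d 0) by ring)
    have h00 : biproduct.ι (fun l : Fin 2 => OL k (d l)) 0 ≫ θ = 0 :=
      Groth.L03.VBPn.CokerSimple.hom_eq_zero_of_twist e1 (Groth.L22.Reg.subsingleton_iso e2.symm 0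
        (Groth.L16.ProjSpace.subsingleton_HH_twist 1 k (-(d 0)) 0 (by omega) (by omega))) _
    let θ1 : OL k (d 1) ⟶ OL k 0 := biproduct.ι (fun l : Fin 2 => OL k (d l)) 1 ≫ θ
    have hfac : θ = biproduct.π (fun l : Fin 2 => OL k (d l)) 1 ≫ θ1 := by
      refine biproduct.hom_ext' _ _ fun l => ?_
      fin_cases l
      · simpa [biproduct.ι_π_ne_assoc] using h00
      · simp [θ1]
    have h1ne : θ1 ≠ 0 := fun h => hθ (by rw [hfac, h, comp_zero])
    let c1 : cokernel θ ≅ cokernel θ1 := cokernelIsoOfEq hfac ≪≫ cokernelEpiComp _ _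
    rw [Groth.L03.Euler.euler_iso c1, euler_coker_OL θ1 h1ne]
    omega
  · obtain ⟨l, hl⟩ : ∃ l, biproduct.ι (fun l : Fin 2 => OL k (d l)) l ≫ θ ≠ 0 := by
      by_contra h
      exact hθ (biproduct.hom_ext' _ _ fun l => by rw [comp_zero]; exact not_not.1 (not_exists.1 h l))
    have hdl : ∀ l, d l = 0 := fun l => by fin_cases l <;> simp <;> omega
    obtain ⟨e1⟩ := Groth.L03.VBPn.nonempty_inv_twist 1 k (0 : ℤ)
    let ψ : OL k 0 ⟶ sumL k d := eqToHom (by rw [hdl l]) ≫ biproduct.ι (fun l : Fin 2 => OL k (d l)) l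
    obtain ⟨cc, hcc⟩ := Groth.L03.VBPn.exists_eq_smul_id (Groth.L03.VBPn.toGlobal_bij 1 k) e1 (ψ ≫ θ)
    have hc0 : cc ≠ 0 := fun h => hl (by
      rw [h, zero_smul] at hcc
      exact (cancel_epi (eqToHom (by rw [hdl l]) : OL k 0 ⟶ OL k (d l))).1 (by
        rw [comp_zero, ← hcc]; exact (Category.assoc _ _ _).symm))
    haveI : Epi θ := ⟨fun u v huv => by
      have h : ψ ≫ θ ≫ u = ψ ≫ θ ≫ v := by rw [huv]
      rw [← Category.assoc, ← Category.assoc ψ θ v, hcc, Linear.smul_comp, Linear.smul_comp, Category.id_comp,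
        Category.id_comp] at h
      exact smul_right_injective _ hc0 h⟩
    rw [Groth.L03.Euler.euler_of_isZero (isZero_cokernel_of_epi θ)]
    omega

/-- The restricted cokernel is not the structure sheaf. -/
theorem not_iso_OL (e1 : CL P i ≅ OL k 0) : False := by
  haveI : IsIntegral (CohB1.ProjSpace 1 k) := Groth.L16.ProjSpace.isIntegral 1 k
  let η := genericPoint (CohB1.ProjSpace 1 k)
  have hη : η ∈ CohB1.support (CL P i) := by
    rw [← not_not (a := η ∈ _), ← Groth.L16.CohSupport.len_eq_zero_iff, Groth.L16.CohSupport.len_congr e1]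
    intro hl
    obtain ⟨es⟩ := Groth.L22.CurveDeg.nonempty_stalk_equiv (Groth.L12.FinCov.isFinLocFreeOfRank_one_of_isInvertible
      (Groth.L16.ProjTwist.isInvertible_twistProjSpace 1 k 0)) η
    have hsub := Module.length_eq_zero_iff.1 hl
    exact one_ne_zero (congrFun (es.injective (hsub.elim (es fun _ => (1 : (CohB1.ProjSpace 1 k).presheaf.stalk η)) (es 0))) 0)
  obtain ⟨j, hj⟩ : ∃ j, i.base η = P.pt j := by
    by_contra hn
    exact len_CL_eq_zero P i (fun j hj => hn ⟨j, hj⟩) hη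
  have hcl : IsClosed ({η} : Set ↥(CohB1.ProjSpace 1 k)) := by
    have : ({η} : Set ↥(CohB1.ProjSpace 1 k)) = i.base ⁻¹' {P.pt j} := by
      ext z
      simp only [Set.mem_singleton_iff, Set.mem_preimage, ← hj]
      exact ⟨fun h => congrArg i.base h, fun h => i.isClosedEmbedding.injective h⟩
    rw [this]
    exact (P.closed j).preimage i.continuous
  haveI hsub : Subsingleton ↥(CohB1.ProjSpace 1 k) := by
    have h := (genericPoint_spec ↥(CohB1.ProjSpace 1 k)).def
    rw [hcl.closure_eq] at h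
    exact ⟨fun a b => (h.ge (Set.mem_univ a) : a = η).trans (h.ge (Set.mem_univ b) : b = η).symm⟩
  have hdim := Groth.L16.ProjSpace.topologicalKrullDim_eq_of_field 1 k
  have hle : topologicalKrullDim ↥(CohB1.ProjSpace 1 k) ≤ 0 := topologicalKrullDim_zero_of_discreteTopology _
  rw [hdim] at hle
  exact absurd hle (by norm_num)

variable (h1 : Nonempty ((Scheme.Modules.pullback i).obj (Twist.twistProjSpace 2 k 1) ≅ Twist.twistProjSpace 1 k 1))

include h1

theorem pullback_Fr (N : ℕ) (d : ℤ) :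
    Nonempty ((PB i).obj (Fr (r := 2) (k := k) fun _ : Fin N => d) ≅ sumL k fun _ : Fin N => -d) := by
  obtain ⟨e⟩ := Groth.L03.VBPn.nonempty_pullback_twist i h1 (-d)
  exact ⟨PreservesCoproduct.iso (PB i) _ ≪≫ (Sigma.mapIso fun _ => e) ≪≫ (biproduct.isoCoproduct _).symm⟩

theorem euler_EL : Curv2.euler k (CohB1.ProjSpace 1 k) ((PB i).obj (E P)) = 2 := by
  haveI := Groth.L22.Reg.isProper_over_proj (k := k) (n := 1)
  have coh : ∀ {M : (CohB1.ProjSpace 2 k).Modules} {r : ℕ}, FlatMod.IsFinLocFreeOfRank r M → Coh.IsCoh ((PB i).obj M) :=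
    fun hM => Groth.L16.NegPow.isCoh_of_isFinLocFree
      (Tango.isFinLocFree_of_rank (Groth.L12.StabLimit.isFinLocFreeOfRank_pullback i hM))
  have hK := Groth.L03.Euler.euler_add (k := k)
    (Groth.L03.VBPn.shortExact_pullback_of_locFree (shortExact_K P) (rank_Fr (k := k) (N := m) (-1)) i)
    (coh (rank_K P)) (coh (rank_Fr (k := k) (N := NN m) 0)) (coh (rank_Fr (k := k) (N := m) (-1)))
  have hE := Groth.L03.Euler.euler_add (k := k)
    (Groth.L03.VBPn.shortExact_pullback_of_locFree (shortExact_E P) (rank_E P) i)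
    (coh (rank_Fr (k := k) (N := m) 1)) (coh (rank_K P)) (coh (rank_E P))
  obtain ⟨a0⟩ := pullback_Fr i h1 (NN m) 0
  obtain ⟨aN⟩ := pullback_Fr i h1 m (-1)
  obtain ⟨a1⟩ := pullback_Fr i h1 m 1
  simp only [ShortComplex.map_X₁, ShortComplex.map_X₂, ShortComplex.map_X₃] at hK hE
  rw [Groth.L03.Euler.euler_iso a0, Groth.L03.Euler.euler_iso aN, euler_sumL, euler_sumL] at hK
  rw [Groth.L03.Euler.euler_iso a1, euler_sumL] at hE
  simp only [Finset.sum_const, Finset.card_univ, Fintype.card_fin, nsmul_eq_mul] at hK hE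
  simp only [NN] at hK
  push_cast at hK hE
  linarith

/-- The splitting type. -/
theorem nonempty_iso : Nonempty ((PB i).obj (E P) ≅
    Twist.twistProjSpace 1 k (Nat.card {j : Fin m // P.pt j ∈ Set.range i.base} : ℤ) ⊞
      Twist.twistProjSpace 1 k (-(Nat.card {j : Fin m // P.pt j ∈ Set.range i.base} : ℤ))) := by
  classical
  haveI := Groth.L22.Reg.isProper_over_proj (k := k) (n := 1)
  haveI : IsLocallyNoetherian (PS 2 k) := by
    haveI := Groth.L22.Reg.isProper_over_proj (k := k) (n := 2)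
    exact LocallyOfFiniteType.isLocallyNoetherian (CohB1.ProjSpace.toSpec 2 k)
  obtain ⟨d, hd, ⟨e⟩⟩ : ∃ d : Fin 2 → ℤ, Antitone d ∧ Nonempty (sumL k d ≅ (PB i).obj (E P)) :=
    Groth.L21.P1.exists_splitting k (Groth.L12.StabLimit.isFinLocFreeOfRank_pullback i (rank_E P))
  have hsum : d 0 + d 1 = 0 := by
    have h := euler_EL P i h1
    rw [← Groth.L03.Euler.euler_iso e, euler_sumL, Fin.sum_univ_two] at h
    linarith
  have hd0 : 0 ≤ d 0 := by
    have := hd (show (0 : Fin 2) ≤ 1 by decide)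
    omega
  -- the map to the structure sheaf
  obtain ⟨o⟩ := Groth.L03.VBPn.nonempty_pullback_twist i h1 0
  let o' : (PB i).obj (Fr (r := 2) (k := k) fun _ : Fin 1 => (0 : ℤ)) ≅ OL k 0 :=
    (PB i).mapIso (coproductUniqueIso _) ≪≫ o
  let θ : sumL k d ⟶ OL k 0 := e.hom ≫ (PB i).map (φ P) ≫ o'.hom
  let c : cokernel θ ≅ CL P i :=
    (cokernel.mapIso θ ((PB i).map (φ P)) e o'.symm (by simp [θ])) ≪≫ (PreservesCokernel.iso (PB i) (φ P)).symm
  have hC : Coh.IsCoh (CL P i) := Groth.L19.LimMod.isCoh_pullback' i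
    (Groth.L16.CohKernel.isCoh_kernel_cokernel
      (Groth.L16.NegPow.isCoh_of_isFinLocFree (Tango.isFinLocFree_of_rank (rank_E P)))
      (Groth.L16.NegPow.isCoh_of_isFinLocFree (Tango.isFinLocFree_of_rank (rank_Fr (k := k) (N := 1) 0))) (φ P)).2
  have hχ : Curv2.euler k (CohB1.ProjSpace 1 k) (cokernel θ) =
      (Nat.card {j : Fin m // P.pt j ∈ Set.range i.base} : ℤ) :=
    (Groth.L03.Euler.euler_iso c).trans (euler_CL P i hC)
  have hθ : θ ≠ 0 := fun h0 => not_iso_OL P i (c.symm ≪≫ cokernelIsoOfEq h0 ≪≫ cokernelZeroIsoTarget)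
  have key : (Nat.card {j : Fin m // P.pt j ∈ Set.range i.base} : ℤ) = d 0 :=
    hχ.symm.trans (degree_eq hsum hd0 θ hθ)
  rw [key, show -d 0 = d 1 by omega]
  exact ⟨e.symm ≪≫
    { hom := biprod.lift (biproduct.π _ 0) (biproduct.π _ 1)
      inv := biprod.desc (biproduct.ι (fun l : Fin 2 => OL k (d l)) 0) (biproduct.ι (fun l : Fin 2 => OL k (d l)) 1)
      hom_inv_id := by
        rw [biprod.lift_desc, ← biproduct.total (f := fun l : Fin 2 => OL k (d l)), Fin.sum_univ_two]
      inv_hom_id := by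
        apply biprod.hom_ext' <;> apply biprod.hom_ext <;> simp [biproduct.ι_π_ne] }⟩

end Groth.L03.VBPn.Jump
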