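import Groth.Agent.L03.VBPn.Jump.Monad
import Groth.Agent.L16.NegPow.Gen

/-!
# The bundle of a monad of points and its map to the structure sheaf
-/

set_option autoImplicit false
set_option linter.style.haveILetI false
set_option linter.unusedSectionVars false
set_option backward.isDefEq.respectTransparency false
set_option backward.isDefEq.respectTransparency.types false

universe u

open CategoryTheory CategoryTheory.Limits AlgebraicGeometry TopologicalSpace Opposite
open Groth.L22.SyzTilde (G S PS Fr pr st theta matHom toLoc theta_matHom theta_injective theta_zero st_comp st_zero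
  mem_G_cast)
open Groth.L03.VBPn.Tango (rank_kernel isFinLocFree_of_rank isFinLocFreeOfRank_sum C_mem_G toLoc_eq)

noncomputable section

namespace Groth.L03.VBPn.Jump

variable {k : Type u} [Field k] {m : ℕ} (P : Pts k m) (w : ProjectiveSpectrum (CohB1.polyGrading 2 k))

theorem rank_Fr {N : ℕ} (d : ℤ) : FlatMod.IsFinLocFreeOfRank N (Fr (r := 2) (k := k) fun _ : Fin N => d) :=
  isFinLocFreeOfRank_sum (Groth.L16.ProjTwist.isInvertible_twistProjSpace 2 k (-d)) N

theorem rank_K : FlatMod.IsFinLocFreeOfRank (m + 2) (K P) := by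
  haveI := epi_β P
  haveI : IsIntegral (PS 2 k) := Groth.L16.ProjSpace.isIntegral 2 k
  have h := rank_kernel (β P) (rank_Fr (k := k) (N := NN m) 0) (rank_Fr (k := k) (N := m) (-1))
  rwa [show NN m - m = m + 2 by unfold NN; omega] at h

theorem ā_ι : ā P ≫ kernel.ι (β P) = α P := kernel.lift_ι _ _ _

/-- The choice of component at a point. -/
def sel (i : Fin m) : Idx m :=
  open Classical in
  if w = P.pt i then Sum.inr (Sum.inr 0)
  else if P.l₀ i ∈ w.asHomogeneousIdeal.toIdeal then Sum.inr (Sum.inl i) else Sum.inl i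

/-- Selecting components. -/
def γ : Fr (r := 2) (k := k) (e0 m) ⟶ Fr (fun _ : Fin m => (0 : ℤ)) :=
  open Classical in
  matHom (fun i a => MvPolynomial.C (if (idx m).symm a = sel P w i then (1 : k) else 0))
    (fun i a => by rw [show e0 m a - (0 : ℤ) = 0 from sub_zero _]; exact C_mem_G _)

/-- The selected diagonal entry. -/
def diag (i : Fin m) : S 2 k :=
  open Classical in
  if w = P.pt i then P.ell else if P.l₀ i ∈ w.asHomogeneousIdeal.toIdeal then P.l₁ i else P.l₀ i

theorem diag_spec (i : Fin m) : (diag P w i).IsHomogeneous 1 ∧ diag P w i ∉ w.asHomogeneousIdeal.toIdeal := by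
  classical
  unfold diag
  split_ifs with h h0
  · exact ⟨P.hell, h ▸ P.avoid i⟩
  · exact ⟨P.hl₁ i, fun h1 => h (eq_pt P h0 h1)⟩
  · exact ⟨P.hl₀ i, h0⟩

theorem theta_αγ (z : (Groth.L21.Mod.stalkF (PS 2 k) w).obj (Fr (e1 m))) (i : Fin m) :
    theta (fun _ : Fin m => (0 : ℤ)) w (st w (α P ≫ γ P w) z) i =
      toLoc w (diag P w i) * theta (e1 m) w z i +
        open Classical in
        (if w = P.pt i then toLoc w P.ell * ∑ c ∈ Finset.univ.erase i, theta (e1 m) w z c else 0) := by
  classical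
  rw [α, γ, Tango.theta_comp]
  have hrow : ∀ c, ∑ b, MvPolynomial.C (if (idx m).symm b = sel P w i then (1 : k) else 0) * Amat P b c =
      amap P (sel P w i) c := fun c => by
    rw [Finset.sum_eq_single (idx m (sel P w i))]
    · simp [Amat]
    · intro b _ hb
      rw [if_neg fun h => hb (by rw [← h, Equiv.apply_symm_apply]), map_zero, zero_mul]
    · exact fun h => absurd (Finset.mem_univ _) h
  simp only [hrow, ← toLoc_eq]
  rw [← Finset.add_sum_erase _ _ (Finset.mem_univ i)]
  unfold sel diag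
  split_ifs with h h0
  · simp only [amap, if_true, Finset.mul_sum]
  · rw [Finset.sum_eq_zero fun c hc => by simp [amap, (Finset.ne_of_mem_erase hc).symm, toLoc, Localization.mk_zero]]
    simp [amap]
  · rw [Finset.sum_eq_zero fun c hc => by simp [amap, (Finset.ne_of_mem_erase hc).symm, toLoc, Localization.mk_zero]]
    simp [amap]

theorem bijective_αγ : Function.Bijective (st w (α P ≫ γ P w)) := by
  classical
  have hu : ∀ i, toLoc w (diag P w i) * Localization.mk 1 ⟨diag P w i, (diag_spec P w i).2⟩ = 1 := fun i =>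
    toLoc_mul_mk_one (diag_spec P w i).2
  have hne : ∀ i c, w = P.pt i → c ≠ i → w ≠ P.pt c := fun i c h hc h' => hc (P.inj (h'.symm.trans h))
  constructor
  · refine (injective_iff_map_eq_zero _).2 fun z hz => theta_injective _ w (funext fun i => ?_)
    have h : ∀ i, toLoc w (diag P w i) * theta (e1 m) w z i +
        (if w = P.pt i then toLoc w P.ell * ∑ c ∈ Finset.univ.erase i, theta (e1 m) w z c else 0) = 0 := fun i => by
      rw [← theta_αγ, hz, theta_zero]
    have hoff : ∀ i, w ≠ P.pt i → theta (e1 m) w z i = 0 := fun i hi => by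
      have h1 := h i
      rw [if_neg hi, add_zero] at h1
      rw [← one_mul (theta (e1 m) w z i), ← hu i, mul_assoc, mul_left_comm, h1, mul_zero]
    rw [theta_zero]
    by_cases hi : w = P.pt i
    · have h1 := h i
      rw [if_pos hi, Finset.sum_eq_zero fun c hc => hoff c (hne i c hi (Finset.ne_of_mem_erase hc)), mul_zero,
        add_zero] at h1
      rw [← one_mul (theta (e1 m) w z i), ← hu i, mul_assoc, mul_left_comm, h1, mul_zero]
    · exact hoff i hi
  · intro v
    let y := theta (fun _ : Fin m => (0 : ℤ)) w v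
    let s0 : Fin m → Twist.Loc (CohB1.polyGrading 2 k) w := fun i =>
      Localization.mk 1 ⟨diag P w i, (diag_spec P w i).2⟩ * y i
    let s : Fin m → Twist.Loc (CohB1.polyGrading 2 k) w := fun i =>
      s0 i - if w = P.pt i then ∑ c ∈ Finset.univ.erase i, s0 c else 0
    have hs0 : ∀ i, s0 i ∈ Twist.twistAt (CohB1.polyGrading 2 k) (-e1 m i) w := fun i =>
      mk_one_mul_mem (d := 0) ⟨_, (diag_spec P w i).1⟩ (diag_spec P w i).2 (theta_mem (fun _ : Fin m => (0 : ℤ)) w v i)
    obtain ⟨z, hz⟩ := exists_theta_mem (e1 m) w s fun i => sub_mem (hs0 i) (by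
      split_ifs
      · exact sum_mem fun c _ => hs0 c
      · exact zero_mem _)
    refine ⟨z, theta_injective _ w (funext fun i => ?_)⟩
    rw [theta_αγ, hz]
    by_cases hi : w = P.pt i
    · have hc : ∀ c ∈ Finset.univ.erase i, s c = s0 c := fun c hc => by
        simp only [s]
        rw [if_neg (hne i c hi (Finset.ne_of_mem_erase hc)), sub_zero]
      rw [if_pos hi, Finset.sum_congr rfl hc]
      have hd : diag P w i = P.ell := by simp [diag, hi]
      simp only [s, if_pos hi, mul_sub, s0, ← mul_assoc, hu i, one_mul]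
      rw [hd]
      ring
    · rw [if_neg hi, add_zero]
      simp only [s, if_neg hi, sub_zero, s0, ← mul_assoc, hu i, one_mul]
      rfl

theorem hsplit : IsSplitMono ((Groth.L00.Stk.F (PS 2 k) w).map (ā P)) := by
  haveI := (ConcreteCategory.isIso_iff_bijective ((Groth.L00.Stk.F (PS 2 k) w).map (α P ≫ γ P w))).2
    (bijective_αγ P w)
  have e : (Groth.L00.Stk.F (PS 2 k) w).map (ā P) ≫ (Groth.L00.Stk.F (PS 2 k) w).map (kernel.ι (β P) ≫ γ P w) =
      (Groth.L00.Stk.F (PS 2 k) w).map (α P ≫ γ P w) := by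
    rw [← Functor.map_comp, ← Category.assoc, ā_ι]
  exact IsSplitMono.mk' ⟨_ ≫ inv ((Groth.L00.Stk.F (PS 2 k) w).map (α P ≫ γ P w)), by
    rw [← Category.assoc, e, IsIso.hom_inv_id]⟩

theorem mono_ā : Mono (ā P) := Groth.L17.BC.Efface.mono_of_stalkSplit (hsplit P)

theorem shortExact_E : (ShortComplex.mk (ā P) (cokernel.π (ā P)) (cokernel.condition (ā P))).ShortExact :=
  haveI := mono_ā P
  { exact := ShortComplex.exact_cokernel (ā P)
    mono_f := inferInstanceAs (Mono (ā P))
    epi_g := inferInstanceAs (Epi (cokernel.π (ā P))) }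

theorem shortExact_K : (ShortComplex.mk (kernel.ι (β P)) (β P) (kernel.condition (β P))).ShortExact :=
  haveI := epi_β P
  { exact := ShortComplex.exact_kernel (β P)
    mono_f := inferInstanceAs (Mono (kernel.ι (β P)))
    epi_g := inferInstanceAs (Epi (β P)) }

theorem rank_E : FlatMod.IsFinLocFreeOfRank 2 (E P) := by
  let S' := ShortComplex.mk (ā P) (cokernel.π (ā P)) (cokernel.condition (ā P))
  have hS : S'.ShortExact := shortExact_E P
  have hflat : FlatMod.IsFlat (E P) := fun x => by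
    have hx : (S'.map (Groth.L00.Stk.F (PS 2 k) x)).ShortExact := hS.map_of_exact _
    obtain ⟨r, hr⟩ := (hsplit P x).exists_splitMono
    haveI := hx.epi_g
    let sp := ShortComplex.Splitting.ofExactOfRetraction _ hx.exact r hr hx.epi_g
    obtain ⟨e⟩ := Groth.L22.CurveDeg.nonempty_stalk_equiv (rank_K P) x
    haveI : Module.Free _ ((Groth.L00.Stk.F (PS 2 k) x).obj (K P)) :=
      Module.Free.of_basis ((Pi.basisFun _ (Fin (m + 2))).map e)
    haveI : Module.Flat ((PS 2 k).presheaf.stalk x) (S'.map (Groth.L00.Stk.F (PS 2 k) x)).X₂ :=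
      inferInstanceAs (Module.Flat ((PS 2 k).presheaf.stalk x) ((Groth.L00.Stk.F (PS 2 k) x).obj (K P)))
    refine Module.Flat.of_retract sp.s.hom (S'.map (Groth.L00.Stk.F (PS 2 k) x)).g.hom ?_
    exact congrArg ModuleCat.Hom.hom sp.s_g
  haveI : IsIntegral (PS 2 k) := Groth.L16.ProjSpace.isIntegral 2 k
  have hM : FlatMod.IsFinLocFreeOfRank m (Fr (r := 2) (k := k) (e1 m)) := rank_Fr 1
  have hQ : FlatMod.IsFinLocFree (E P) := Groth.L29.DC.Fib.isFinLocFree_cokernel
    (isFinLocFree_of_rank hM) (isFinLocFree_of_rank (rank_K P)) (ā P) hflat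
  obtain ⟨r, hr⟩ := Groth.L18.KRRAmple.exists_rank hQ
  obtain ⟨x⟩ := (inferInstance : Nonempty (PS 2 k))
  obtain ⟨V, eM, hxV, -, heM⟩ := Groth.L22.CurveDeg.Det.exists_affine_basis hM x ⊤ trivial
  have h := Groth.L22.Adjunction.rank_add hS heM hxV (rank_K P) hr
  exact (show 2 = r by omega) ▸ hr

/-- The last component. -/
def D : Fr (r := 2) (k := k) (e0 m) ⟶ Fr (fun _ : Fin 1 => (0 : ℤ)) :=
  matHom (fun _ a => MvPolynomial.C (if a = idx m (Sum.inr (Sum.inr 1)) then (1 : k) else 0))
    (fun _ a => by rw [show e0 m a - (0 : ℤ) = 0 from sub_zero _]; exact C_mem_G _)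

theorem α_D : α P ≫ D (k := k) (m := m) = 0 := Tango.comp_eq_zero _ _ _ _ fun _ c => by
  rw [Finset.sum_eq_single (idx m (Sum.inr (Sum.inr 1)))]
  · simp [Amat, amap]
  · intro b _ hb
    rw [if_neg hb, map_zero, zero_mul]
  · exact fun h => absurd (Finset.mem_univ _) h

/-- The map to the structure sheaf. -/
def φ : E P ⟶ Fr (r := 2) (k := k) (fun _ : Fin 1 => (0 : ℤ)) :=
  cokernel.desc (ā P) (kernel.ι (β P) ≫ D) (by rw [← Category.assoc, ā_ι, α_D])

theorem theta_D (z : (Groth.L21.Mod.stalkF (PS 2 k) w).obj (Fr (e0 m))) :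
    theta (fun _ : Fin 1 => (0 : ℤ)) w (st w (D (k := k) (m := m)) z) 0 =
      theta (e0 m) w z (idx m (Sum.inr (Sum.inr 1))) := by
  rw [D, theta_matHom, Finset.sum_eq_single (idx m (Sum.inr (Sum.inr 1)))]
  · simp [toLoc_eq]
  · intro b _ hb
    simp [toLoc_eq, hb]
  · exact fun h => absurd (Finset.mem_univ _) h

/-- The values in the image. -/
theorem mem_range_φ (v : (Groth.L21.Mod.stalkF (PS 2 k) w).obj (Fr (fun _ : Fin 1 => (0 : ℤ)))) :
    v ∈ Set.range (st w (φ P)) ↔ ∀ j, w = P.pt j →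
      ∃ yb : Twist.Loc (CohB1.polyGrading 2 k) w × Twist.Loc (CohB1.polyGrading 2 k) w,
        (yb.1 ∈ Twist.twistAt (CohB1.polyGrading 2 k) 0 w ∧ yb.2 ∈ Twist.twistAt (CohB1.polyGrading 2 k) 0 w) ∧
          - toLoc w (P.l₁ j) * yb.1 + (toLoc w (P.l₀ j) * yb.2 +
            toLoc w P.ell * theta (fun _ : Fin 1 => (0 : ℤ)) w v 0) = 0 := by
  classical
  constructor
  · rintro ⟨q, rfl⟩ j rfl
    have hs : Function.Surjective (st (P.pt j) (cokernel.π (ā P))) :=
      (AddCommGrpCat.epi_iff_surjective _).1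
        (inferInstance : Epi ((Groth.L21.Mod.stalkF (PS 2 k) (P.pt j)).map (cokernel.π (ā P))))
    obtain ⟨z, rfl⟩ := hs q
    rw [← st_comp, φ, cokernel.π_desc, st_comp, theta_D]
    refine ⟨(theta (e0 m) (P.pt j) (st (P.pt j) (kernel.ι (β P)) z) (idx m (Sum.inl j)),
      theta (e0 m) (P.pt j) (st (P.pt j) (kernel.ι (β P)) z) (idx m (Sum.inr (Sum.inl j)))),
      ⟨by simpa using theta_mem (e0 m) (P.pt j) (st (P.pt j) (kernel.ι (β P)) z) (idx m (Sum.inl j)),
        by simpa using theta_mem (e0 m) (P.pt j) (st (P.pt j) (kernel.ι (β P)) z) (idx m (Sum.inr (Sum.inl j)))⟩, ?_⟩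
    rw [← theta_β, ← st_comp, kernel.condition, st_zero, theta_zero]
  · intro h
    have h4 : theta (fun _ : Fin 1 => (0 : ℤ)) w v 0 ∈ Twist.twistAt (CohB1.polyGrading 2 k) 0 w := by
      simpa using theta_mem (fun _ : Fin 1 => (0 : ℤ)) w v 0
    have key : ∃ z, theta (e0 m) w z (idx m (Sum.inr (Sum.inr 1))) = theta (fun _ : Fin 1 => (0 : ℤ)) w v 0 ∧
        theta (eN m) w (st w (β P) z) = 0 := by
      by_cases hw : ∃ j, w = P.pt j
      · obtain ⟨j, rfl⟩ := hw
        obtain ⟨yb, hyb, he⟩ := h j rfl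
        exact exists_solution P _ 0 (fun _ => zero_mem _) _ h4 yb hyb fun j' hj' => by rw [← P.inj hj']; exact he
      · exact exists_solution P w 0 (fun _ => zero_mem _) _ h4 0 ⟨zero_mem _, zero_mem _⟩ fun j hj =>
          absurd ⟨j, hj⟩ hw
    obtain ⟨z, hz4, hz⟩ := key
    have hz0 : st w (β P) z = 0 := theta_injective _ w (hz.trans (funext fun i => (theta_zero _ w i).symm))
    have hex := (ShortComplex.ab_exact_iff _).1
      ((Groth.L21.Mod.exact_iff_stalk _).1 (shortExact_K P).exact w) z hz0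
    obtain ⟨y, hy⟩ := hex
    refine ⟨st w (cokernel.π (ā P)) y, theta_injective _ w (funext fun c => ?_)⟩
    rw [Subsingleton.elim c 0, ← st_comp, φ, cokernel.π_desc, st_comp, theta_D]
    change st w (kernel.ι (β P)) y = z at hy
    rw [hy, hz4]

theorem surjective_φ (h : ∀ j, w ≠ P.pt j) : Function.Surjective (st w (φ P)) := fun v =>
  (mem_range_φ P w v).2 fun j hj => absurd hj (h j)

theorem not_surjective_φ (j : Fin m) : ¬ Function.Surjective (st (P.pt j) (φ P)) := fun h => by
  obtain ⟨v, hv⟩ := exists_theta_mem (fun _ : Fin 1 => (0 : ℤ)) (P.pt j) (fun _ => 1) fun _ => by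
    refine Submodule.subset_span ⟨0, 0, 1, 1, Groth.L16.ProjTwist.one_notMem _ _, by simp, ?_⟩
    rw [← Localization.mk_one]
    rfl
  obtain ⟨yb, -, he⟩ := (mem_range_φ P _ v).1 (h v) j rfl
  simp only [hv, mul_one, toLoc_eq] at he
  -- the ideal of the point contains no unit
  let M := IsLocalRing.maximalIdeal (Twist.Loc (CohB1.polyGrading 2 k) (P.pt j))
  have hin : ∀ p ∈ (P.pt j).asHomogeneousIdeal.toIdeal,
      algebraMap (S 2 k) (Twist.Loc (CohB1.polyGrading 2 k) (P.pt j)) p ∈ M := fun p hp => by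
    exact (IsLocalization.AtPrime.to_map_mem_maximal_iff _ (P.pt j).asHomogeneousIdeal.toIdeal p).2 hp
  refine P.avoid j ((IsLocalization.AtPrime.to_map_mem_maximal_iff
    (Twist.Loc (CohB1.polyGrading 2 k) (P.pt j)) _ _).1 ?_)
  have e : algebraMap (S 2 k) (Twist.Loc (CohB1.polyGrading 2 k) (P.pt j)) P.ell =
      algebraMap _ _ (P.l₁ j) * yb.1 - algebraMap _ _ (P.l₀ j) * yb.2 := by linear_combination he
  rw [e]
  exact sub_mem (Ideal.mul_mem_right _ _ (hin _ (mem_pt P j).2)) (Ideal.mul_mem_right _ _ (hin _ (mem_pt P j).1))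

theorem toLoc_C_smul_mem (c : k) {y : Twist.Loc (CohB1.polyGrading 2 k) w} {d : ℤ}
    (hy : y ∈ Twist.twistAt (CohB1.polyGrading 2 k) d w) :
    toLoc w (MvPolynomial.C c) * y ∈ Twist.twistAt (CohB1.polyGrading 2 k) d w :=
  Groth.L22.SyzTilde.mul_mem_twistAt (C_mem_G c) (add_zero d) hy

/-- Scaling of the structure sheaf. -/
def scal (c : k) : Fr (r := 2) (k := k) (fun _ : Fin 1 => (0 : ℤ)) ⟶ Fr (fun _ : Fin 1 => (0 : ℤ)) :=
  matHom (fun _ _ => MvPolynomial.C c) (fun _ _ => by rw [show ((0 : ℤ)) - 0 = 0 from sub_zero _]; exact C_mem_G _)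

/-- Modulo the image every value is a constant. -/
theorem exists_const [IsAlgClosed k] (j : Fin m) (g v : (Groth.L21.Mod.stalkF (PS 2 k) (P.pt j)).obj (Fr (fun _ : Fin 1 => (0 : ℤ))))
    (hg : theta (fun _ : Fin 1 => (0 : ℤ)) (P.pt j) g 0 = 1) :
    ∃ c : k, v - st (P.pt j) (scal c) g ∈ Set.range (st (P.pt j) (φ P)) := by
  obtain ⟨d, s, hs, num, hnum, hz⟩ := Groth.L22.SyzTilde.exists_common (fun _ : Fin 1 => (0 : ℤ)) (P.pt j) v
  obtain ⟨a, cc, hca, hXa, hmem, -⟩ := exists_coords (P.pt j) (P.closed j)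
  let x := (P.pt j).asHomogeneousIdeal.toIdeal
  have hnum' : (num 0).IsHomogeneous d := by
    have := hnum 0
    rw [show (d : ℤ) - 0 = (d : ℤ) from sub_zero _] at this
    exact mem_G_cast.1 this
  -- every form of degree `d` is a multiple of `X a ^ d` modulo the point
  have hred : ∀ p : S 2 k, p.IsHomogeneous d → ∃ c : k, p - MvPolynomial.C c * MvPolynomial.X a ^ d ∈ x := by
    intro p hp
    refine ⟨MvPolynomial.eval cc p, ?_⟩
    let q := Ideal.Quotient.mk x
    have hX : ∀ i, q (MvPolynomial.X i) = q (MvPolynomial.C (cc i)) * q (MvPolynomial.X a) := fun i => by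
      rw [← map_mul]; exact Ideal.Quotient.eq.2 (hmem i)
    rw [← Ideal.Quotient.eq]
    conv_lhs => rw [p.as_sum]
    rw [MvPolynomial.eval_eq, map_mul, map_sum, map_sum, map_sum, Finset.sum_mul]
    refine Finset.sum_congr rfl fun e he => ?_
    have hdeg : ∑ l ∈ e.support, e l = d := by
      rw [← hp (MvPolynomial.mem_support_iff.1 he)]
      simp [Finsupp.weight_apply, Finsupp.sum]
    rw [MvPolynomial.monomial_eq, map_mul, Finsupp.prod, map_prod, map_mul, map_mul, map_prod, map_prod,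
      ← hdeg, ← Finset.prod_pow_eq_pow_sum, map_prod, mul_assoc, ← Finset.prod_mul_distrib]
    refine congrArg _ (Finset.prod_congr rfl fun l _ => ?_)
    rw [map_pow, map_pow, map_pow, map_pow, hX l, mul_pow]
  obtain ⟨c1, h1⟩ := hred _ hnum'
  obtain ⟨c2, h2⟩ := hred _ s.2
  have hc2 : c2 ≠ 0 := fun h => hs (by simpa [h, x] using h2)
  refine ⟨c1 / c2, (mem_range_φ P _ _).2 fun j' hj' => ?_⟩
  obtain rfl := P.inj hj'
  have hmemJ : num 0 - MvPolynomial.C (c1 / c2) * s.1 ∈ x := by
    have := sub_mem h1 (Ideal.mul_mem_left x (MvPolynomial.C (c1 / c2)) h2)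
    convert this using 1
    rw [show MvPolynomial.C c1 = (MvPolynomial.C (c1 / c2) * MvPolynomial.C c2 : S 2 k) by
      rw [← map_mul, div_mul_cancel₀ _ hc2]]
    ring
  rw [show x = Ideal.span {P.l₀ j, P.l₁ j} from P.cut j, Ideal.mem_span_pair] at hmemJ
  obtain ⟨u₀, u₁, hu⟩ := hmemJ
  have hval : theta (fun _ : Fin 1 => (0 : ℤ)) (P.pt j) (v - st (P.pt j) (scal (c1 / c2)) g) 0 =
      Localization.mk (num 0 - MvPolynomial.C (c1 / c2) * s.1) ⟨s.1, hs⟩ := by
    rw [theta, map_sub, map_sub]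
    show theta (fun _ : Fin 1 => (0 : ℤ)) (P.pt j) v 0 - theta (fun _ : Fin 1 => (0 : ℤ)) (P.pt j)
      (st (P.pt j) (scal (c1 / c2)) g) 0 = _
    rw [scal, theta_matHom, Fin.sum_univ_one, hg, hz 0, mul_one, toLoc]
    rw [sub_eq_iff_eq_add, Localization.add_mk, Localization.mk_eq_mk_iff, Localization.r_iff_exists]
    exact ⟨1, by simp only [OneMemClass.coe_one, Submonoid.coe_mul, one_mul]; ring⟩
  -- the coefficients, made homogeneous
  let h0 := MvPolynomial.homogeneousComponent (d - 1) u₀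
  let h1' := MvPolynomial.homogeneousComponent (d - 1) u₁
  have hd : 1 ≤ d ∨ num 0 - MvPolynomial.C (c1 / c2) * s.1 = 0 := by
    by_contra hcon
    simp only [not_or, not_le] at hcon
    obtain rfl : d = 0 := by omega
    refine hcon.2 ?_
    have hh : (num 0 - MvPolynomial.C (c1 / c2) * s.1).IsHomogeneous 0 := hnum'.sub (MvPolynomial.IsHomogeneous.C_mul s.2 _)
    rw [← MvPolynomial.homogeneousComponent_of_mem ((MvPolynomial.mem_homogeneousSubmodule _ _).2 hh) (m := 0)
      |>.trans (if_pos rfl), ← hu, map_add]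
    have : ∀ (u l : S 2 k), l.IsHomogeneous 1 → MvPolynomial.homogeneousComponent 0 (u * l) = 0 := fun u l hl => by
      conv_lhs => rw [← MvPolynomial.sum_homogeneousComponent u, Finset.sum_mul, map_sum]
      refine Finset.sum_eq_zero fun b _ => ?_
      rw [MvPolynomial.homogeneousComponent_of_mem ((MvPolynomial.mem_homogeneousSubmodule _ _).2
        ((MvPolynomial.homogeneousComponent_isHomogeneous b u).mul hl)), if_neg (by omega)]
    rw [this _ _ (P.hl₀ j), this _ _ (P.hl₁ j), add_zero]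
  rcases hd with hd | hd
  · have hh : (num 0 - MvPolynomial.C (c1 / c2) * s.1).IsHomogeneous d :=
      hnum'.sub (MvPolynomial.IsHomogeneous.C_mul s.2 _)
    have hcomp : num 0 - MvPolynomial.C (c1 / c2) * s.1 = h0 * P.l₀ j + h1' * P.l₁ j := by
      have hm : ∀ (u l : S 2 k), l.IsHomogeneous 1 →
          MvPolynomial.homogeneousComponent d (u * l) = MvPolynomial.homogeneousComponent (d - 1) u * l := fun u l hl => by
        conv_lhs => rw [← MvPolynomial.sum_homogeneousComponent u, Finset.sum_mul, map_sum]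
        rw [Finset.sum_eq_single (d - 1)]
        · rw [MvPolynomial.homogeneousComponent_of_mem ((MvPolynomial.mem_homogeneousSubmodule _ _).2
            ((MvPolynomial.homogeneousComponent_isHomogeneous (d - 1) u).mul hl)), if_pos (by omega)]
        · intro b _ hb
          rw [MvPolynomial.homogeneousComponent_of_mem ((MvPolynomial.mem_homogeneousSubmodule _ _).2
            ((MvPolynomial.homogeneousComponent_isHomogeneous b u).mul hl)), if_neg (by omega)]
        · intro h
          rw [MvPolynomial.homogeneousComponent_eq_zero _ u (by simp at h; omega), zero_mul, map_zero]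
      rw [← MvPolynomial.homogeneousComponent_of_mem ((MvPolynomial.mem_homogeneousSubmodule _ _).2 hh) (m := d)
        |>.trans (if_pos rfl), ← hu, map_add, hm _ _ (P.hl₀ j), hm _ _ (P.hl₁ j)]
    have hfrac : ∀ u : S 2 k, u.IsHomogeneous (d - 1) → toLoc (P.pt j) P.ell * Localization.mk u ⟨s.1, hs⟩ ∈
        Twist.twistAt (CohB1.polyGrading 2 k) 0 (P.pt j) := fun u hu' => by
      have h : Localization.mk u ⟨s.1, hs⟩ ∈ Twist.twistAt (CohB1.polyGrading 2 k) (-1) (P.pt j) :=
        Submodule.subset_span ⟨d - 1, d, ⟨u, hu'⟩, s, hs, by omega, rfl⟩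
      simpa using toLoc_mul_mem P.hell h
    refine ⟨(toLoc (P.pt j) P.ell * Localization.mk h1' ⟨s.1, hs⟩,
      -(toLoc (P.pt j) P.ell * Localization.mk h0 ⟨s.1, hs⟩)),
      ⟨hfrac _ (MvPolynomial.homogeneousComponent_isHomogeneous _ _),
        neg_mem (hfrac _ (MvPolynomial.homogeneousComponent_isHomogeneous _ _))⟩, ?_⟩
    rw [hval, hcomp]
    have e : (Localization.mk (h0 * P.l₀ j + h1' * P.l₁ j) ⟨s.1, hs⟩ : Twist.Loc (CohB1.polyGrading 2 k) (P.pt j)) =
        toLoc (P.pt j) (P.l₀ j) * Localization.mk h0 ⟨s.1, hs⟩ +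
          toLoc (P.pt j) (P.l₁ j) * Localization.mk h1' ⟨s.1, hs⟩ := by
      rw [toLoc, toLoc, Localization.mk_mul, Localization.mk_mul, Localization.add_mk, Localization.mk_eq_mk_iff,
        Localization.r_iff_exists]
      exact ⟨1, by simp; ring⟩
    rw [e]
    ring
  · refine ⟨0, ⟨zero_mem _, zero_mem _⟩, ?_⟩
    rw [hval, hd, Localization.mk_zero]
    simp

end Groth.L03.VBPn.Jump
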