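import Groth.Agent.L22.SyzTilde.Free
import Groth.Agent.L16.ProjSpace.Sections
import Groth.Agent.L03.VBPn.Tango.Maps
import Mathlib.RingTheory.Nullstellensatz
import Mathlib.FieldTheory.IsAlgClosed.Basic
import Mathlib.Algebra.Polynomial.Roots

/-!
# Linear forms at closed points of the projective plane
-/

set_option autoImplicit false
set_option linter.style.haveILetI false
set_option linter.unusedSectionVars false
set_option backward.isDefEq.respectTransparency false

universe u

open CategoryTheory AlgebraicGeometry TopologicalSpace MvPolynomial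
open Groth.L22.SyzTilde (S G)

noncomputable section

namespace Groth.L03.VBPn.Jump

variable {k : Type u} [Field k] [IsAlgClosed k] {n : ℕ}

/-- A closed point is the common zero of `X i - c i X a`. -/
theorem exists_coords (x : ProjectiveSpectrum (CohB1.polyGrading n k))
    (hx : IsClosed ({x} : Set (ProjectiveSpectrum (CohB1.polyGrading n k)))) :
    ∃ (a : Fin (n + 1)) (c : Fin (n + 1) → k), c a = 1 ∧
      (X a : S n k) ∉ x.asHomogeneousIdeal.toIdeal ∧
      (∀ i, (X i - C (c i) * X a : S n k) ∈ x.asHomogeneousIdeal.toIdeal) ∧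
      x.asHomogeneousIdeal.toIdeal ≤ Ideal.span (Set.range fun i => (X i - C (c i) * X a : S n k)) := by
  classical
  obtain ⟨a, ha'⟩ := Groth.L16.ProjSpace.exists_mem_basicOpen_X n k x
  have ha : (X a : S n k) ∉ x.asHomogeneousIdeal.toIdeal := fun h => (Proj.mem_basicOpen _ _ _).1 ha' h
  -- an affine point
  let J : Ideal (S n k) := x.asHomogeneousIdeal.toIdeal ⊔ Ideal.span {(X a - 1 : S n k)}
  have hJ : J ≠ ⊤ := by
    intro h
    rw [Ideal.eq_top_iff_one, Submodule.mem_sup] at h
    obtain ⟨p, hp, q, hq, hpq⟩ := h
    obtain ⟨g, rfl⟩ := Ideal.mem_span_singleton'.1 hq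
    -- compare homogeneous components
    have hcomp : ∀ d, homogeneousComponent d p ∈ x.asHomogeneousIdeal.toIdeal := fun d => by
      have h := x.asHomogeneousIdeal.is_homogeneous' d hp
      rwa [show (((DirectSum.decompose (CohB1.polyGrading n k)) p d : CohB1.polyGrading n k d) : S n k) =
          homogeneousComponent d p from MvPolynomial.decomposition.decompose'_apply p d] at h
    have hpe : p = 1 + g - g * X a := by linear_combination hpq
    have hmul : ∀ d, homogeneousComponent (d + 1) (g * X a) = homogeneousComponent d g * X a := fun d => by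
      conv_lhs => rw [← MvPolynomial.sum_homogeneousComponent g, Finset.sum_mul, map_sum]
      rw [Finset.sum_eq_single d]
      · rw [homogeneousComponent_of_mem
          ((mem_homogeneousSubmodule _ _).2 ((homogeneousComponent_isHomogeneous d g).mul (isHomogeneous_X k a))),
          if_pos rfl]
      · intro b _ hb
        rw [homogeneousComponent_of_mem
          ((mem_homogeneousSubmodule _ _).2 ((homogeneousComponent_isHomogeneous b g).mul (isHomogeneous_X k a))),
          if_neg (by omega)]
      · intro hd
        rw [homogeneousComponent_eq_zero d g (by simpa using hd), zero_mul, map_zero]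
    have h0 : homogeneousComponent 0 (g * X a) = 0 := by
      conv_lhs => rw [← MvPolynomial.sum_homogeneousComponent g, Finset.sum_mul, map_sum]
      refine Finset.sum_eq_zero fun b _ => ?_
      rw [homogeneousComponent_of_mem
        ((mem_homogeneousSubmodule _ _).2 ((homogeneousComponent_isHomogeneous b g).mul (isHomogeneous_X k a))),
        if_neg (by omega)]
    have h1 : ∀ d, homogeneousComponent d (1 : S n k) = if d = 0 then 1 else 0 := fun d =>
      homogeneousComponent_of_mem ((mem_homogeneousSubmodule _ _).2 (isHomogeneous_one _ _))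
    have key : ∀ d, homogeneousComponent d g + (X a) ^ d ∈ x.asHomogeneousIdeal.toIdeal := by
      intro d
      induction d with
      | zero =>
        have h := hcomp 0
        rw [hpe, map_sub, map_add, h0, h1, if_pos rfl, sub_zero] at h
        simpa [add_comm] using h
      | succ d ih =>
        have h := hcomp (d + 1)
        rw [hpe, map_sub, map_add, hmul, h1, if_neg (Nat.succ_ne_zero d), zero_add] at h
        have h2 := x.asHomogeneousIdeal.toIdeal.mul_mem_right (X a) ih
        have h3 := add_mem h h2
        convert h3 using 1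
        ring
    have h := key (g.totalDegree + 1)
    rw [homogeneousComponent_eq_zero _ g (by omega), zero_add] at h
    exact ha (x.isPrime.mem_of_pow_mem _ h)
  obtain ⟨M, hM, hJM⟩ := Ideal.exists_le_maximal J hJ
  obtain ⟨v, rfl⟩ : ∃ v : Fin (n + 1) → k, M = vanishingIdeal k {v} :=
    isMaximal_iff_eq_vanishingIdeal_singleton.1 hM
  have hv : ∀ p ∈ x.asHomogeneousIdeal.toIdeal, aeval v p = 0 := fun p hp => by
    have := (mem_vanishingIdeal_singleton_iff v p).1 (hJM (Submodule.mem_sup_left hp))
    exact this
  have hva : v a = 1 := by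
    have h := (mem_vanishingIdeal_singleton_iff v _).1
      (hJM (Submodule.mem_sup_right (Ideal.subset_span rfl)))
    simpa [sub_eq_zero] using h
  -- the line through `v`
  let L : Fin (n + 1) → S n k := fun i => X i - C (v i) * X a
  let φ : S n k →ₐ[k] Polynomial k := MvPolynomial.aeval fun i => Polynomial.C (v i) * Polynomial.X
  let θ : Polynomial k →ₐ[k] S n k := Polynomial.aeval (X a)
  have hsub : ∀ p : S n k, p - θ (φ p) ∈ Ideal.span (Set.range L) := fun p => by
    induction p using MvPolynomial.induction_on with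
    | C c => simp [φ, θ]
    | add p q hp hq =>
      rw [map_add, map_add, show p + q - (θ (φ p) + θ (φ q)) = (p - θ (φ p)) + (q - θ (φ q)) by ring]
      exact add_mem hp hq
    | mul_X p i hp =>
      rw [map_mul, map_mul, show p * X i - θ (φ p) * θ (φ (X i)) = (p - θ (φ p)) * X i + θ (φ p) * (X i - θ (φ (X i))) by ring]
      refine add_mem (Ideal.mul_mem_right _ _ hp) (Ideal.mul_mem_left _ _ ?_)
      refine Ideal.subset_span ⟨i, ?_⟩
      simp [φ, θ, L]
  have hP : x.asHomogeneousIdeal.toIdeal ≤ Ideal.span (Set.range L) := fun p hp => by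
    have hz : φ p = 0 := by
      refine Polynomial.funext fun t => ?_
      rw [Polynomial.eval_zero, show (φ p).eval t = aeval (fun i => t * v i) p by
        show (Polynomial.aeval t) (φ p) = _
        rw [← AlgHom.comp_apply, MvPolynomial.comp_aeval]
        congr 1
        refine MvPolynomial.algHom_ext fun i => ?_
        rw [aeval_X, aeval_X, map_mul, Polynomial.aeval_C, Polynomial.aeval_X, Algebra.algebraMap_self, RingHom.id_apply, mul_comm]]
      conv_lhs => rw [← MvPolynomial.sum_homogeneousComponent p, map_sum]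
      refine Finset.sum_eq_zero fun d _ => ?_
      have hd : aeval v (homogeneousComponent d p) = 0 := by
        refine hv _ ?_
        have h := x.asHomogeneousIdeal.is_homogeneous' d hp
        rwa [show (((DirectSum.decompose (CohB1.polyGrading n k)) p d : CohB1.polyGrading n k d) : S n k) =
            homogeneousComponent d p from MvPolynomial.decomposition.decompose'_apply p d] at h
      have hh := homogeneousComponent_isHomogeneous d p
      rw [aeval_def, Algebra.algebraMap_self, eval₂_id] at hd ⊢
      rw [eval_eq] at hd ⊢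
      rw [← mul_zero (t ^ d), ← hd, Finset.mul_sum]
      refine Finset.sum_congr rfl fun m hm => ?_
      have hdeg : ∑ l ∈ m.support, m l = d := by
        rw [← hh (mem_support_iff.1 hm)]
        simp [Finsupp.weight_apply, Finsupp.sum]
      simp only [mul_pow, Finset.prod_mul_distrib, Finset.prod_pow_eq_pow_sum, hdeg]
      ring
    have := hsub p
    rwa [hz, map_zero, sub_zero] at this
  refine ⟨a, v, hva, ha, fun i => ?_, hP⟩
  -- the point is closed, so it is this line
  let K : Ideal (S n k) := RingHom.ker φ
  have hK : K = Ideal.span (Set.range L) := by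
    refine le_antisymm (fun p hp => ?_) (Ideal.span_le.2 ?_)
    · have := hsub p
      rwa [RingHom.mem_ker.1 hp, map_zero, sub_zero] at this
    · rintro _ ⟨i, rfl⟩
      simp [K, φ, L, hva]
  have hhom : K.IsHomogeneous (CohB1.polyGrading n k) := by
    rw [hK]
    refine Ideal.homogeneous_span _ _ ?_
    rintro _ ⟨i, rfl⟩
    exact ⟨1, (isHomogeneous_X k i).sub ((isHomogeneous_X k a).C_mul _)⟩
  have haK : (X a : S n k) ∉ K := by simp [K, φ, hva]
  let y : ProjectiveSpectrum (CohB1.polyGrading n k) := ⟨⟨K, hhom⟩, RingHom.ker_isPrime φ, fun hle =>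
    haK (hle (HomogeneousIdeal.mem_irrelevant_of_mem (CohB1.polyGrading n k) one_pos (isHomogeneous_X k a)))⟩
  have hxy : x ≤ y := fun p hp => hK.ge (hP hp)
  have : y ∈ closure ({x} : Set (ProjectiveSpectrum (CohB1.polyGrading n k))) :=
    (ProjectiveSpectrum.le_iff_mem_closure (CohB1.polyGrading n k) x y).1 hxy
  rw [hx.closure_eq, Set.mem_singleton_iff] at this
  show L i ∈ x.asHomogeneousIdeal.toIdeal
  rw [← this]
  exact hK.ge (Ideal.subset_span ⟨i, rfl⟩)

variable {x : ProjectiveSpectrum (CohB1.polyGrading 2 k)}

/-- Two forms cut out a closed point of the plane. -/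
theorem exists_pair (hx : IsClosed ({x} : Set (ProjectiveSpectrum (CohB1.polyGrading 2 k)))) :
    ∃ l : Fin 2 → S 2 k, (∀ i, (l i).IsHomogeneous 1) ∧
      x.asHomogeneousIdeal.toIdeal = Ideal.span (Set.range l) := by
  obtain ⟨a, c, hca, -, hmem, hle⟩ := exists_coords x hx
  refine ⟨fun i => X (a.succAbove i) - C (c (a.succAbove i)) * X a, fun i =>
    (isHomogeneous_X k _).sub ((isHomogeneous_X k a).C_mul _), le_antisymm (hle.trans (Ideal.span_le.2 ?_))
      (Ideal.span_le.2 ?_)⟩
  · rintro _ ⟨i, rfl⟩
    rcases eq_or_ne i a with rfl | hi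
    · simp [hca]
    · obtain ⟨j, rfl⟩ := Fin.exists_succAbove_eq hi
      exact Ideal.subset_span ⟨j, rfl⟩
  · rintro _ ⟨i, rfl⟩
    exact hmem _

/-- A form vanishing at none of finitely many closed points. -/
theorem exists_avoid {m : ℕ} (x : Fin m → ProjectiveSpectrum (CohB1.polyGrading n k))
    (hx : ∀ j, IsClosed ({x j} : Set (ProjectiveSpectrum (CohB1.polyGrading n k)))) :
    ∃ ℓ : S n k, ℓ.IsHomogeneous 1 ∧ ∀ j, ℓ ∉ (x j).asHomogeneousIdeal.toIdeal := by
  classical
  choose a c hca ha hmem hle using fun j => exists_coords (x j) (hx j)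
  let f : Fin m → Polynomial k := fun j => ∑ i, Polynomial.C (c j i) * Polynomial.X ^ (i : ℕ)
  have hf : ∀ j, f j ≠ 0 := fun j h => by
    have := congrArg (fun p => Polynomial.coeff p (a j : ℕ)) h
    simp only [f, Polynomial.finset_sum_coeff, Polynomial.coeff_C_mul_X_pow, Polynomial.coeff_zero,
      Fin.val_inj] at this
    rw [Finset.sum_ite_eq Finset.univ (a j), if_pos (Finset.mem_univ _), hca] at this
    exact one_ne_zero this
  obtain ⟨t, ht⟩ := Polynomial.exists_eval_ne_zero_of_natDegree_lt_card
    (∏ j, f j) (Finset.prod_ne_zero_iff.2 fun j _ => hf j) ((Cardinal.nat_lt_aleph0 _).trans_le (Cardinal.aleph0_le_mk k))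
  refine ⟨∑ i : Fin (n + 1), C (t ^ (i : ℕ)) * X i, IsHomogeneous.sum _ _ _ fun i _ => (isHomogeneous_X k i).C_mul _, fun j h => ?_⟩
  have h1 : (∑ i : Fin (n + 1), C (t ^ (i : ℕ)) * (X i - C (c j i) * X (a j)) : S n k) ∈ (x j).asHomogeneousIdeal.toIdeal :=
    Submodule.sum_mem _ fun i _ => Ideal.mul_mem_left _ _ (hmem j i)
  have h2 := Submodule.sub_mem _ h h1
  have h3 : (∑ i : Fin (n + 1), C (t ^ (i : ℕ)) * X i - ∑ i : Fin (n + 1), C (t ^ (i : ℕ)) * (X i - C (c j i) * X (a j)) : S n k) =
      C ((f j).eval t) * X (a j) := by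
    simp only [f, Polynomial.eval_finset_sum, Polynomial.eval_mul, Polynomial.eval_C, Polynomial.eval_pow,
      Polynomial.eval_X, map_sum, map_mul, Finset.sum_mul, ← Finset.sum_sub_distrib]
    exact Finset.sum_congr rfl fun i _ => by ring
  rw [h3] at h2
  rcases (x j).isPrime.mem_or_mem h2 with h4 | h4
  · refine (x j).isPrime.ne_top (Ideal.eq_top_of_isUnit_mem _ h4 ((isUnit_iff_ne_zero.2 fun h0 => ht ?_).map C))
    rw [Polynomial.eval_prod]
    exact Finset.prod_eq_zero (Finset.mem_univ j) h0
  · exact ha j h4

end Groth.L03.VBPn.Jump
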