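import Groth.Agent.L16.CohSupport
import Mathlib.RingTheory.Length
import Mathlib.RingTheory.LocalRing.ResidueField.Basic
import Mathlib.RingTheory.TensorProduct.Basic
import Mathlib.LinearAlgebra.TensorProduct.Tower

/-!
# Lengths of simple modules under surjective local maps
-/

set_option autoImplicit false
set_option linter.style.haveILetI false

universe u

open TensorProduct IsLocalRing

namespace Groth.L03.VBPn.Jump

/-- A simple module stays simple along a surjection of local rings. -/
theorem isSimpleModule_baseChange {A B : Type u} [CommRing A] [CommRing B] [IsLocalRing A] [IsLocalRing B]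
    [Algebra A B] [IsLocalHom (algebraMap A B)] (hf : Function.Surjective (algebraMap A B))
    {M : Type u} [AddCommGroup M] [Module A M] [IsSimpleModule A M] : IsSimpleModule B (B ⊗[A] M) := by
  obtain ⟨-, hgen⟩ := (isSimpleModule_iff_toSpanSingleton_surjective (R := A) (M := M)).1 inferInstance
  haveI := IsSimpleModule.nontrivial A M
  obtain ⟨g, hg⟩ := exists_ne (0 : M)
  have hgen' := hgen g hg
  have hann : ∀ a ∈ maximalIdeal A, a • g = 0 := fun a ha => by
    by_contra h
    obtain ⟨c, hc⟩ := hgen (a • g) h g
    simp only [LinearMap.toSpanSingleton_apply, smul_smul] at hc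
    have h1 : (1 - c * a) • g = 0 := by rw [sub_smul, one_smul, hc, sub_self]
    have hu : IsUnit (1 - c * a) := by
      by_contra hn
      exact (maximalIdeal.isMaximal A).ne_top ((Ideal.eq_top_iff_one _).2
        (by simpa using add_mem ((mem_maximalIdeal _).2 hn) (Ideal.mul_mem_left _ c ha)))
    exact hg (hu.smul_left_cancel.1 (h1.trans (smul_zero _).symm))
  have hspan : ∀ z : B ⊗[A] M, ∃ b : B, z = b ⊗ₜ g := fun z => by
    induction z using TensorProduct.induction_on with
    | zero => exact ⟨0, by rw [zero_tmul]⟩
    | tmul b v =>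
      obtain ⟨a, ha⟩ := hgen' v
      simp only [LinearMap.toSpanSingleton_apply] at ha
      subst ha
      exact ⟨a • b, by rw [← smul_tmul]⟩
    | add z z' hz hz' =>
      obtain ⟨b, rfl⟩ := hz
      obtain ⟨b', rfl⟩ := hz'
      exact ⟨b + b', by rw [add_tmul]⟩
  have hker : ∀ a : A, a • g = 0 → a ∈ maximalIdeal A := fun a ha => by
    rw [mem_maximalIdeal]
    exact fun hu => hg (hu.smul_left_cancel.1 (ha.trans (smul_zero _).symm))
  -- the residue of the coefficient of the generator
  let ρ : A →ₗ[A] ResidueField B :=
    { toFun := fun a => residue B (algebraMap A B a)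
      map_add' := fun a a' => by rw [map_add, map_add]
      map_smul' := fun a a' => by
        rw [smul_eq_mul, map_mul, map_mul, RingHom.id_apply, Algebra.smul_def]
        rfl }
  have hnz : (1 : B) ⊗ₜ[A] g ≠ 0 := fun h => by
    let π : A →ₗ[A] M := LinearMap.toSpanSingleton A M g
    have hle : LinearMap.ker π ≤ LinearMap.ker ρ := fun a ha => by
      show residue B (algebraMap A B a) = 0
      rw [residue_eq_zero_iff, mem_maximalIdeal]
      exact fun hu => (mem_maximalIdeal _).1 (hker a ha) (isUnit_of_map_unit _ _ hu)
    let ψ : M →ₗ[A] ResidueField B :=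
      (LinearMap.ker π).liftQ ρ hle ∘ₗ (LinearMap.quotKerEquivOfSurjective π hgen').symm.toLinearMap
    have hψ : ψ g = 1 := by
      have e : (LinearMap.quotKerEquivOfSurjective π hgen').symm g = Submodule.Quotient.mk 1 := by
        rw [LinearEquiv.symm_apply_eq]
        show g = π 1
        simp [π]
      simp only [ψ, LinearMap.comp_apply, LinearEquiv.coe_coe, e, Submodule.liftQ_apply]
      show residue B (algebraMap A B 1) = 1
      simp
    have := congrArg (LinearMap.liftBaseChange B ψ) h
    simp [hψ] at this
  refine isSimpleModule_iff_toSpanSingleton_surjective.2 ⟨⟨_, _, hnz⟩, fun z hz w => ?_⟩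
  obtain ⟨b, rfl⟩ := hspan z
  obtain ⟨c, rfl⟩ := hspan w
  have hb : IsUnit b := by
    by_contra hb
    obtain ⟨a, rfl⟩ := hf b
    refine hz ?_
    rw [Algebra.algebraMap_eq_smul_one, smul_tmul, hann a, tmul_zero]
    rw [mem_maximalIdeal]
    exact fun hu => hb (hu.map _)
  refine ⟨c * ↑hb.unit⁻¹, ?_⟩
  rw [LinearMap.toSpanSingleton_apply, smul_tmul', smul_eq_mul, mul_assoc, IsUnit.val_inv_mul, mul_one]

end Groth.L03.VBPn.Jump
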