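import Groth.Agent.L03.VBPn.Tango.Bundle
import Groth.Agent.L22.SyzTilde.Free

/-!
# Values of germs of sums of twists
-/

set_option autoImplicit false
set_option linter.style.haveILetI false
set_option linter.unusedSectionVars false
set_option backward.isDefEq.respectTransparency false

universe u

open CategoryTheory CategoryTheory.Limits AlgebraicGeometry TopologicalSpace Opposite
open Groth.L22.SyzTilde (G S PS Fr pr st theta toLoc evalT evalT_mem exists_evalT_eq exists_fractionT st_comp st_zero
  st_id ι_pr_self ι_pr_ne mem_G_cast mul_mem_twistAt)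

noncomputable section

namespace Groth.L03.VBPn.Jump

variable {k : Type u} [Field k] {r : ℕ} {N : ℕ}

theorem theta_mem (deg : Fin N → ℤ) (x : ProjectiveSpectrum (CohB1.polyGrading r k))
    (z : (Groth.L21.Mod.stalkF (PS r k) x).obj (Fr deg)) (a : Fin N) :
    theta deg x z a ∈ Twist.twistAt (CohB1.polyGrading r k) (-deg a) x :=
  evalT_mem (-deg a) x _

/-- Every tuple of fractions is the value of a germ. -/
theorem exists_theta_mem (deg : Fin N → ℤ) (x : ProjectiveSpectrum (CohB1.polyGrading r k))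
    (y : Fin N → Twist.Loc (CohB1.polyGrading r k) x)
    (hy : ∀ a, y a ∈ Twist.twistAt (CohB1.polyGrading r k) (-deg a) x) : ∃ z, theta deg x z = y := by
  have h : ∀ a, ∃ z, evalT (-deg a) x z = y a := fun a => by
    rcases exists_fractionT (hy a) with h0 | ⟨i, j, p, q, hq, hij, hp⟩
    · exact ⟨0, by rw [map_zero, h0]⟩
    · obtain ⟨z, hz⟩ := exists_evalT_eq p q hq hij
      exact ⟨z, hz.trans hp.symm⟩
  choose z hz using h
  refine ⟨∑ b, st x (Sigma.ι (fun b : Fin N => Twist.twist (CohB1.polyGrading r k) (-deg b)) b) (z b), funext fun a => ?_⟩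
  rw [theta, map_sum, Finset.sum_eq_single a, ← st_comp, ι_pr_self, st_id, hz a]
  · intro b _ hb
    rw [← st_comp, ι_pr_ne deg hb, st_zero]
  · simp

variable {x : ProjectiveSpectrum (CohB1.polyGrading r k)}

/-- Multiplication by the inverse of a form of degree one. -/
theorem mk_one_mul_mem {d : ℤ} (u : CohB1.polyGrading r k 1) (hu : u.1 ∉ x.asHomogeneousIdeal)
    {y : Twist.Loc (CohB1.polyGrading r k) x} (hy : y ∈ Twist.twistAt (CohB1.polyGrading r k) d x) :
    Localization.mk 1 ⟨u.1, hu⟩ * y ∈ Twist.twistAt (CohB1.polyGrading r k) (d - 1) x := by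
  rcases exists_fractionT hy with rfl | ⟨i, j, p, q, hq, hij, rfl⟩
  · rw [mul_zero]; exact zero_mem _
  · refine Submodule.subset_span ⟨i, 1 + j, p, ⟨u.1 * q.1, SetLike.mul_mem_graded u.2 q.2⟩,
      Groth.L16.ProjTwist.notMem_mul _ hu hq, by push_cast; omega, ?_⟩
    rw [Localization.mk_mul, one_mul]
    rfl

/-- Multiplication by a form of degree one. -/
theorem toLoc_mul_mem {d : ℤ} {p : S r k} (hp : p.IsHomogeneous 1)
    {y : Twist.Loc (CohB1.polyGrading r k) x} (hy : y ∈ Twist.twistAt (CohB1.polyGrading r k) d x) :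
    toLoc x p * y ∈ Twist.twistAt (CohB1.polyGrading r k) (d + 1) x :=
  mul_mem_twistAt (δ := ((1 : ℕ) : ℤ)) (mem_G_cast.2 hp) (by push_cast; rfl) hy

theorem toLoc_mul_mk_one {p : S r k} (hp : p ∉ x.asHomogeneousIdeal) :
    toLoc x p * Localization.mk 1 ⟨p, hp⟩ = 1 := by
  rw [Localization.mk_mul, ← Localization.mk_one, Localization.mk_eq_mk_iff, Localization.r_iff_exists]
  exact ⟨1, by simp⟩

end Groth.L03.VBPn.Jump
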