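import Groth.Agent.L03.VBPn.Jump.Forms
import Groth.Agent.L03.VBPn.Jump.Stalk
import Groth.Agent.L03.VBPn.NullExists
import Mathlib.Logic.Equiv.Fin.Basic

/-!
# The monad `O(-1)^m ⟶ O^(2m+2) ⟶ O(1)^m` of finitely many points of the plane
-/

set_option autoImplicit false
set_option linter.style.haveILetI false
set_option linter.unusedSectionVars false
set_option backward.isDefEq.respectTransparency false
set_option backward.isDefEq.respectTransparency.types false

universe u

open CategoryTheory CategoryTheory.Limits AlgebraicGeometry TopologicalSpace Opposite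
open Groth.L22.SyzTilde (G S PS Fr pr st theta matHom toLoc theta_matHom theta_injective theta_zero st_comp st_zero
  mem_G_cast)
open Groth.L03.VBPn.Tango (hom_ext_theta rank_kernel isFinLocFree_of_rank isFinLocFreeOfRank_sum)

noncomputable section

namespace Groth.L03.VBPn.Jump

variable (k : Type u) [Field k] (m : ℕ)

/-- Points, a pair of forms for each and a form avoiding all of them. -/
structure Pts where
  pt : Fin m → ProjectiveSpectrum (CohB1.polyGrading 2 k)
  l₀ : Fin m → S 2 k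
  l₁ : Fin m → S 2 k
  ell : S 2 k
  hl₀ : ∀ j, (l₀ j).IsHomogeneous 1
  hl₁ : ∀ j, (l₁ j).IsHomogeneous 1
  hell : ell.IsHomogeneous 1
  cut : ∀ j, (pt j).asHomogeneousIdeal.toIdeal = Ideal.span {l₀ j, l₁ j}
  closed : ∀ j, IsClosed ({pt j} : Set (ProjectiveSpectrum (CohB1.polyGrading 2 k)))
  inj : Function.Injective pt
  avoid : ∀ j, ell ∉ (pt j).asHomogeneousIdeal.toIdeal

theorem exists_pts [IsAlgClosed k] (x : Fin m → ProjectiveSpectrum (CohB1.polyGrading 2 k))
    (hx : Function.Injective x) (hcl : ∀ j, IsClosed ({x j} : Set (ProjectiveSpectrum (CohB1.polyGrading 2 k)))) :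
    ∃ P : Pts k m, P.pt = x := by
  choose l hl hcut using fun j => exists_pair (hcl j)
  obtain ⟨ℓ, hℓ, hav⟩ := exists_avoid x hcl
  refine ⟨⟨x, fun j => l j 0, fun j => l j 1, ℓ, fun j => hl j 0, fun j => hl j 1, hℓ, fun j => ?_, hcl, hx, hav⟩, rfl⟩
  rw [hcut j]
  congr 1
  ext p
  simp [Fin.exists_fin_two, eq_comm]

/-- Indices of `O^(2m+2)`. -/
abbrev Idx := Fin m ⊕ Fin m ⊕ Fin 2

/-- The number of indices. -/
abbrev NN : ℕ := m + (m + 2)

/-- The indices, numbered. -/
def idx : Idx m ≃ Fin (NN m) := ((Equiv.refl (Fin m)).sumCongr finSumFinEquiv).trans finSumFinEquiv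

theorem sum_idx {M : Type*} [AddCommMonoid M] (f : Fin (NN m) → M) :
    ∑ a, f a = ∑ j, f (idx m (Sum.inl j)) + (∑ j, f (idx m (Sum.inr (Sum.inl j))) +
      (f (idx m (Sum.inr (Sum.inr 0))) + f (idx m (Sum.inr (Sum.inr 1))))) := by
  rw [← Equiv.sum_comp (idx m), Fintype.sum_sum_type, Fintype.sum_sum_type, Fin.sum_univ_two]

/-- Degrees of `O(-1)^m`. -/
abbrev e1 : Fin m → ℤ := fun _ => 1
/-- Degrees of `O^(2m+2)`. -/
abbrev e0 : Fin (NN m) → ℤ := fun _ => 0
/-- Degrees of `O(1)^m`. -/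
abbrev eN : Fin m → ℤ := fun _ => -1

variable {k m} (P : Pts k m)

theorem eq_pt {w : ProjectiveSpectrum (CohB1.polyGrading 2 k)} {j : Fin m}
    (h0 : P.l₀ j ∈ w.asHomogeneousIdeal.toIdeal) (h1 : P.l₁ j ∈ w.asHomogeneousIdeal.toIdeal) : w = P.pt j := by
  have hle : P.pt j ≤ w := show (P.pt j).asHomogeneousIdeal.toIdeal ≤ w.asHomogeneousIdeal.toIdeal by
    rw [P.cut j, Ideal.span_le]
    exact Set.insert_subset h0 (Set.singleton_subset_iff.2 h1)
  have := (ProjectiveSpectrum.le_iff_mem_closure (CohB1.polyGrading 2 k) (P.pt j) w).1 hle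
  rwa [(P.closed j).closure_eq, Set.mem_singleton_iff] at this

theorem mem_pt (j : Fin m) :
    P.l₀ j ∈ (P.pt j).asHomogeneousIdeal.toIdeal ∧ P.l₁ j ∈ (P.pt j).asHomogeneousIdeal.toIdeal := by
  rw [P.cut j]
  exact ⟨Ideal.subset_span (Set.mem_insert _ _), Ideal.subset_span (Set.mem_insert_of_mem _ rfl)⟩

/-- The first map on indices. -/
def amap : Idx m → Fin m → S 2 k
  | .inl j, i => if j = i then P.l₀ i else 0
  | .inr (.inl j), i => if j = i then P.l₁ i else 0
  | .inr (.inr t), _ => if t = 0 then P.ell else 0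

/-- The second map on indices. -/
def bmap (i : Fin m) : Idx m → S 2 k
  | .inl j => if j = i then -P.l₁ i else 0
  | .inr (.inl j) => if j = i then P.l₀ i else 0
  | .inr (.inr t) => if t = 0 then 0 else P.ell

/-- `O(-1)^m ⟶ O^(2m+2)`. -/
def Amat (a : Fin (NN m)) (i : Fin m) : S 2 k := amap P ((idx m).symm a) i

/-- `O^(2m+2) ⟶ O(1)^m`. -/
def Bmat (i : Fin m) (a : Fin (NN m)) : S 2 k := bmap P i ((idx m).symm a)

theorem mem_one {p : S 2 k} (hp : p.IsHomogeneous 1) {d : ℤ} (hd : d = 1) : p ∈ G 2 k d := by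
  subst hd
  exact (mem_G_cast (i := 1)).2 hp

theorem Amat_mem (a : Fin (NN m)) (i : Fin m) : Amat P a i ∈ G 2 k (e1 m i - e0 m a) := by
  refine mem_one ?_ rfl
  unfold Amat
  rcases (idx m).symm a with j | j | t <;> simp only [amap] <;> split_ifs <;>
    first | exact P.hl₀ i | exact P.hl₁ i | exact P.hell | exact MvPolynomial.isHomogeneous_zero _ _ _

theorem Bmat_mem (i : Fin m) (a : Fin (NN m)) : Bmat P i a ∈ G 2 k (e0 m a - eN m i) := by
  refine mem_one ?_ rfl
  unfold Bmat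
  rcases (idx m).symm a with j | j | t <;> simp only [bmap] <;> split_ifs <;>
    first | exact (P.hl₁ i).neg | exact P.hl₀ i | exact P.hell | exact MvPolynomial.isHomogeneous_zero _ _ _

/-- `O(-1)^m ⟶ O^(2m+2)`. -/
def α : Fr (r := 2) (k := k) (e1 m) ⟶ Fr (e0 m) := matHom (Amat P) (Amat_mem P)

/-- `O^(2m+2) ⟶ O(1)^m`. -/
def β : Fr (r := 2) (k := k) (e0 m) ⟶ Fr (eN m) := matHom (Bmat P) (Bmat_mem P)

theorem α_β : α P ≫ β P = 0 := Tango.comp_eq_zero _ _ _ _ fun i i' => by
  rw [sum_idx]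
  simp only [Amat, Bmat, Equiv.symm_apply_apply, amap, bmap]
  rw [Finset.sum_eq_single i, Finset.sum_eq_single i]
  · by_cases h : i = i'
    · subst h
      simp
      ring
    · simp [h]
  · intro j _ hj; simp [hj]
  · exact fun h => absurd (Finset.mem_univ i) h
  · intro j _ hj; simp [hj]
  · exact fun h => absurd (Finset.mem_univ i) h

/-- The kernel of the second map. -/
abbrev K : (PS 2 k).Modules := kernel (β P)

/-- The first map into the kernel. -/
def ā : Fr (r := 2) (k := k) (e1 m) ⟶ K P := kernel.lift _ (α P) (α_β P)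

/-- The bundle. -/
abbrev E : (PS 2 k).Modules := cokernel (ā P)

variable (w : ProjectiveSpectrum (CohB1.polyGrading 2 k))

/-- The value of the second map. -/
theorem theta_β (z : (Groth.L21.Mod.stalkF (PS 2 k) w).obj (Fr (e0 m))) (i : Fin m) :
    theta (eN m) w (st w (β P) z) i =
      - toLoc w (P.l₁ i) * theta (e0 m) w z (idx m (Sum.inl i)) +
        (toLoc w (P.l₀ i) * theta (e0 m) w z (idx m (Sum.inr (Sum.inl i))) +
          toLoc w P.ell * theta (e0 m) w z (idx m (Sum.inr (Sum.inr 1)))) := by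
  rw [β, theta_matHom, sum_idx]
  simp only [Bmat, Equiv.symm_apply_apply, bmap, Tango.toLoc_eq]
  rw [Finset.sum_eq_single i, Finset.sum_eq_single i]
  · simp
  · intro j _ hj; simp [hj]
  · exact fun h => absurd (Finset.mem_univ i) h
  · intro j _ hj; simp [hj]
  · exact fun h => absurd (Finset.mem_univ i) h

/-- At every point all pairs of forms but at most one, the one of the point, have a unit. -/
theorem unit_of_ne {j : Fin m} (h : w ≠ P.pt j) :
    P.l₀ j ∉ w.asHomogeneousIdeal.toIdeal ∨ P.l₁ j ∉ w.asHomogeneousIdeal.toIdeal :=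
  not_and_or.1 fun h' => h (eq_pt P h'.1 h'.2)

/-- A solution with prescribed last component, off the points. -/
theorem exists_solution (g : Fin m → Twist.Loc (CohB1.polyGrading 2 k) w)
    (hg : ∀ i, g i ∈ Twist.twistAt (CohB1.polyGrading 2 k) (-eN m i) w)
    (y4 : Twist.Loc (CohB1.polyGrading 2 k) w) (h4 : y4 ∈ Twist.twistAt (CohB1.polyGrading 2 k) 0 w)
    (yb : Twist.Loc (CohB1.polyGrading 2 k) w × Twist.Loc (CohB1.polyGrading 2 k) w)
    (hyb : yb.1 ∈ Twist.twistAt (CohB1.polyGrading 2 k) 0 w ∧ yb.2 ∈ Twist.twistAt (CohB1.polyGrading 2 k) 0 w)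
    (hb : ∀ j, w = P.pt j → - toLoc w (P.l₁ j) * yb.1 + (toLoc w (P.l₀ j) * yb.2 + toLoc w P.ell * y4) = g j) :
    ∃ z, theta (e0 m) w z (idx m (Sum.inr (Sum.inr 1))) = y4 ∧ theta (eN m) w (st w (β P) z) = g := by
  classical
  have hr : ∀ i, g i - toLoc w P.ell * y4 ∈ Twist.twistAt (CohB1.polyGrading 2 k) 1 w := fun i =>
    sub_mem (hg i) (by simpa using toLoc_mul_mem P.hell h4)
  let sol : Fin m → Twist.Loc (CohB1.polyGrading 2 k) w × Twist.Loc (CohB1.polyGrading 2 k) w := fun i =>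
    if w = P.pt i then yb
    else if h : P.l₁ i ∈ w.asHomogeneousIdeal then
      (if h' : P.l₀ i ∈ w.asHomogeneousIdeal then 0
      else (0, Localization.mk 1 ⟨P.l₀ i, h'⟩ * (g i - toLoc w P.ell * y4)))
    else (Localization.mk 1 ⟨P.l₁ i, h⟩ * -(g i - toLoc w P.ell * y4), 0)
  have hsol : ∀ i, (sol i).1 ∈ Twist.twistAt (CohB1.polyGrading 2 k) 0 w ∧
      (sol i).2 ∈ Twist.twistAt (CohB1.polyGrading 2 k) 0 w ∧
      - toLoc w (P.l₁ i) * (sol i).1 + (toLoc w (P.l₀ i) * (sol i).2 + toLoc w P.ell * y4) = g i := fun i => by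
    simp only [sol]
    split_ifs with h h1 h0
    · exact ⟨hyb.1, hyb.2, hb i h⟩
    · exact absurd (eq_pt P h0 h1) h
    · refine ⟨zero_mem _, mk_one_mul_mem (d := 1) ⟨_, P.hl₀ i⟩ h0 (hr i), ?_⟩
      simp only [← mul_assoc, toLoc_mul_mk_one h0]
      ring
    · refine ⟨mk_one_mul_mem (d := 1) ⟨_, P.hl₁ i⟩ h1 (neg_mem (hr i)), zero_mem _, ?_⟩
      simp only [← mul_assoc, neg_mul, toLoc_mul_mk_one h1]
      ring
  let y : Idx m → Twist.Loc (CohB1.polyGrading 2 k) w
    | .inl i => (sol i).1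
    | .inr (.inl i) => (sol i).2
    | .inr (.inr t) => if t = 0 then 0 else y4
  obtain ⟨z, hz⟩ := exists_theta_mem (e0 m) w (y ∘ (idx m).symm) fun a => by
    show y ((idx m).symm a) ∈ _
    rcases (idx m).symm a with j | j | t
    · exact (hsol j).1
    · exact (hsol j).2.1
    · simp only [y]
      split_ifs
      · exact zero_mem _
      · exact h4
  have hval : theta (eN m) w (st w (β P) z) = g := funext fun i => by
    rw [theta_β, hz]
    simp only [Function.comp_apply, Equiv.symm_apply_apply, y]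
    exact (hsol i).2.2
  refine ⟨z, ?_, hval⟩
  rw [hz]
  simp [y]

theorem surjective_β : Function.Surjective (st w (β P)) := fun v => by
  classical
  by_cases hw : ∃ j, w = P.pt j
  · obtain ⟨j, rfl⟩ := hw
    have h4 : Localization.mk 1 ⟨P.ell, P.avoid j⟩ * theta (eN m) (P.pt j) v j ∈
        Twist.twistAt (CohB1.polyGrading 2 k) 0 (P.pt j) :=
      mk_one_mul_mem (d := 1) ⟨_, P.hell⟩ (P.avoid j) (theta_mem (eN m) _ v j)
    obtain ⟨z, -, hz⟩ := exists_solution P (P.pt j) (theta (eN m) (P.pt j) v) (theta_mem (eN m) _ v) _ h4 0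
      ⟨zero_mem _, zero_mem _⟩ fun j' hj' => by
        rw [← P.inj hj', ← mul_assoc, toLoc_mul_mk_one]
        simp
    exact ⟨z, theta_injective _ _ hz⟩
  · obtain ⟨z, -, hz⟩ := exists_solution P w (theta (eN m) w v) (theta_mem (eN m) _ v) 0 (zero_mem _) 0
      ⟨zero_mem _, zero_mem _⟩ fun j hj => absurd ⟨j, hj⟩ hw
    exact ⟨z, theta_injective _ _ hz⟩

theorem epi_β : Epi (β P) :=
  Groth.L21.Mod.epi_iff_stalk (β P) |>.2 fun w => (AddCommGrpCat.epi_iff_surjective _).2 (surjective_β P w)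

end Groth.L03.VBPn.Jump
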