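import Groth.Agent.L03.VBPn.Jump.Bundle
import Groth.Agent.L03.VBPn.Jump.Length
import Groth.Agent.L00.PullStalk
import Groth.Agent.L22.CurveDeg.Det.Points
import Groth.Agent.L21.Disc.PtEuler
import Groth.Agent.L13.UnramDegree
import Groth.Agent.L03.VBPn.Hyper
import Mathlib.AlgebraicGeometry.Morphisms.ClosedImmersion

/-!
# Restricting the map to the structure sheaf to a line
-/

set_option autoImplicit false
set_option linter.style.haveILetI false
set_option linter.unusedSectionVars false
set_option backward.isDefEq.respectTransparency false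
set_option backward.isDefEq.respectTransparency.types false

universe u

open CategoryTheory CategoryTheory.Limits AlgebraicGeometry TopologicalSpace Opposite TensorProduct
open Groth.L22.SyzTilde (G S PS Fr st theta st_comp)
open Groth.L16.CohSupport (len)

noncomputable section

namespace Groth.L03.VBPn.Jump

variable {k : Type u} [Field k] [IsAlgClosed k] {m : ℕ} (P : Pts k m)

/-- A linear endomorphism of a cyclic module is a scalar. -/
theorem exists_scalar {R T : Type*} [CommRing R] [AddCommGroup T] [Module R T] (e : T ≃ₗ[R] (Fin 1 → R))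
    (f : T →ₗ[R] T) : ∃ r : R, ∀ z, f z = r • z := by
  refine ⟨e (f (e.symm fun _ => 1)) 0, fun z => e.injective (funext fun i => ?_)⟩
  rw [Subsingleton.elim i 0, map_smul, Pi.smul_apply, smul_eq_mul]
  have hz : z = e z 0 • e.symm fun _ => 1 := e.injective (funext fun i => by
    rw [Subsingleton.elim i 0, map_smul, LinearEquiv.apply_symm_apply]
    simp)
  conv_lhs => rw [hz, map_smul, map_smul]
  simp [mul_comm]

/-- The cokernel at a point. -/
theorem isSimpleModule_coker (j : Fin m) : IsSimpleModule ((PS 2 k).presheaf.stalk (P.pt j))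
    ((Groth.L00.Stk.F (PS 2 k) (P.pt j)).obj (cokernel (φ P))) := by
  let x := P.pt j
  let R := (PS 2 k).presheaf.stalk x
  let F := Groth.L00.Stk.F (PS 2 k) x
  let π := (F.map (cokernel.π (φ P))).hom
  have hS : ((ShortComplex.mk (φ P) (cokernel.π (φ P)) (cokernel.condition _)).map F).Exact :=
    (ShortComplex.exact_cokernel (φ P)).map F
  haveI : Epi (F.map (cokernel.π (φ P))) := inferInstance
  have hsurj : Function.Surjective π := (ModuleCat.epi_iff_surjective _).1 inferInstance
  have hker : ∀ v, π v = 0 → v ∈ Set.range (st x (φ P)) := fun v hv =>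
    (ShortComplex.moduleCat_exact_iff _).1 hS v hv
  have hrange : ∀ q, π (st x (φ P) q) = 0 := fun q =>
    ConcreteCategory.congr_hom ((ShortComplex.mk (φ P) (cokernel.π (φ P)) (cokernel.condition _)).map F).zero q
  obtain ⟨e⟩ := Groth.L22.CurveDeg.nonempty_stalk_equiv (rank_Fr (k := k) (N := 1) 0) x
  obtain ⟨g, hg⟩ := exists_theta_mem (fun _ : Fin 1 => (0 : ℤ)) x (fun _ => 1) fun _ => by
    refine Submodule.subset_span ⟨0, 0, 1, 1, Groth.L16.ProjTwist.one_notMem _ _, by simp, ?_⟩
    rw [← Localization.mk_one]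
    rfl
  have hscal : ∀ (c : k) z, theta (fun _ : Fin 1 => (0 : ℤ)) x (st x (scal c) z) 0 =
      algebraMap (S 2 k) _ (MvPolynomial.C c) * theta (fun _ : Fin 1 => (0 : ℤ)) x z 0 := fun c z => by
    rw [scal, Groth.L22.SyzTilde.theta_matHom, Fin.sum_univ_one, Tango.toLoc_eq]
  have hlin : ∀ c, ∃ r : R, ∀ z, (F.map (scal c)).hom z = r • z := fun c => exists_scalar e.symm (F.map (scal c)).hom
  have hconst : ∀ v, ∃ r : R, π v = r • π g := fun v => by
    obtain ⟨c, hc⟩ := exists_const P j g v (congrFun hg 0)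
    obtain ⟨q, hq⟩ := hc
    obtain ⟨r, hr⟩ := hlin c
    refine ⟨r, ?_⟩
    have h := hrange q
    erw [hq, map_sub, sub_eq_zero] at h
    rw [h]
    let gF : F.obj (Fr fun _ : Fin 1 => (0 : ℤ)) := g
    exact (congrArg π (hr gF)).trans (map_smul π r gF)
  refine isSimpleModule_iff_toSpanSingleton_surjective.2 ⟨?_, fun q hq w => ?_⟩
  · obtain ⟨v, hv⟩ := not_forall.1 (not_surjective_φ P j)
    exact ⟨π v, 0, fun h => hv (hker v h)⟩
  · obtain ⟨v, rfl⟩ := hsurj q
    obtain ⟨w, rfl⟩ := hsurj w
    obtain ⟨c, q', hq'⟩ := exists_const P j g v (congrFun hg 0)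
    have hc : c ≠ 0 := by
      rintro rfl
      refine hq ?_
      have h0 : st x (scal (0 : k)) g = 0 := Groth.L22.SyzTilde.theta_injective (fun _ : Fin 1 => (0 : ℤ)) x
        (funext fun i => by rw [Subsingleton.elim i 0, hscal, map_zero, map_zero, zero_mul, Groth.L22.SyzTilde.theta_zero])
      rw [h0, sub_zero] at hq'
      rw [← hq']
      exact hrange q'
    obtain ⟨r, hr⟩ := hlin c⁻¹
    obtain ⟨s, hs⟩ := hconst w
    have h1 : π g = r • π v := by
      have h2 : π (st x (scal c⁻¹) (st x (φ P) q')) = 0 := by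
        let zF : F.obj (Fr fun _ : Fin 1 => (0 : ℤ)) := st x (φ P) q'
        have h0 : π zF = 0 := hrange q'
        exact (congrArg π (hr zF)).trans ((map_smul π r zF).trans (by rw [h0, smul_zero]))
      rw [hq'] at h2
      erw [map_sub, map_sub, sub_eq_zero] at h2
      have h3 : st x (scal c⁻¹) (st x (scal c) g) = g := Groth.L22.SyzTilde.theta_injective (fun _ : Fin 1 => (0 : ℤ)) x
        (funext fun i => by
          rw [Subsingleton.elim i 0, hscal, hscal, ← mul_assoc, ← map_mul, ← map_mul, inv_mul_cancel₀ hc,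
            map_one, map_one, one_mul])
      erw [h3] at h2
      let vF : F.obj (Fr fun _ : Fin 1 => (0 : ℤ)) := v
      exact (h2.symm.trans ((congrArg π (hr vF)).trans (map_smul π r vF)))
    exact ⟨s * r, by rw [LinearMap.toSpanSingleton_apply, mul_smul, ← h1, hs]⟩

theorem isZero_coker {w : ProjectiveSpectrum (CohB1.polyGrading 2 k)} (h : ∀ j, w ≠ P.pt j) :
    Subsingleton ((Groth.L00.Stk.F (PS 2 k) w).obj (cokernel (φ P))) := by
  let F := Groth.L00.Stk.F (PS 2 k) w
  haveI : Epi (F.map (cokernel.π (φ P))) := inferInstance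
  have hsurj : Function.Surjective (F.map (cokernel.π (φ P))).hom := (ModuleCat.epi_iff_surjective _).1 inferInstance
  refine subsingleton_of_forall_eq 0 fun q => ?_
  obtain ⟨v, rfl⟩ := hsurj q
  obtain ⟨z, rfl⟩ := surjective_φ P w h v
  exact ConcreteCategory.congr_hom
    ((ShortComplex.mk (φ P) (cokernel.π (φ P)) (cokernel.condition _)).map F).zero z

variable (i : CohB1.ProjSpace 1 k ⟶ CohB1.ProjSpace 2 k) [IsClosedImmersion i]

/-- The restricted cokernel. -/
abbrev CL : (CohB1.ProjSpace 1 k).Modules :=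
  (Scheme.Modules.pullback i).obj (cokernel (φ P) : (CohB1.ProjSpace 2 k).Modules)

theorem len_CL_eq_zero {t : ↥(CohB1.ProjSpace 1 k)} (h : ∀ j, i.base t ≠ P.pt j) : t ∉ CohB1.support (CL P i) := by
  rw [← Groth.L16.CohSupport.len_eq_zero_iff]
  show Module.length _ _ = 0
  rw [Module.length_eq_zero_iff]
  have hz : IsZero ((Groth.L00.Stk.F _ (i.base t)).obj (cokernel (φ P) : (CohB1.ProjSpace 2 k).Modules)) :=
    @ModuleCat.isZero_of_subsingleton _ _ _ (isZero_coker P h)
  have hz' := ((ModuleCat.extendScalars (Groth.L00.PullStalk.φ i t)).map_isZero hz).of_iso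
    ((Groth.L00.PullStalk.stalkIso i t).app _)
  exact ModuleCat.subsingleton_of_isZero hz'

theorem len_CL_eq_one {t : ↥(CohB1.ProjSpace 1 k)} {j : Fin m} (h : i.base t = P.pt j) : len t (CL P i) = 1 := by
  let A := (CohB1.ProjSpace 2 k).presheaf.stalk (i.base t)
  let B := (CohB1.ProjSpace 1 k).presheaf.stalk t
  let f : A →+* B := Groth.L00.PullStalk.φ i t
  letI : Algebra A B := f.toAlgebra
  haveI : IsLocalHom (algebraMap A B) := inferInstanceAs (IsLocalHom (i.stalkMap t).hom)
  have hf : Function.Surjective (algebraMap A B) := i.stalkMap_surjective t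
  let M := (Groth.L00.Stk.F _ (i.base t)).obj (cokernel (φ P) : (CohB1.ProjSpace 2 k).Modules)
  haveI : IsSimpleModule A M := by
    have := isSimpleModule_coker P j
    rw [← h] at this
    exact this
  haveI : IsSimpleModule B (B ⊗[A] M) := isSimpleModule_baseChange hf
  rw [Groth.L16.CohSupport.len]
  refine (((Groth.L00.PullStalk.stalkIso i t).app (cokernel (φ P))).toLinearEquiv.length_eq).trans ?_
  exact Module.length_eq_one_iff.2 (inferInstanceAs (IsSimpleModule B (B ⊗[A] M)))

theorem ptEuler_eq_one (X : Scheme.{u}) [X.Over (Spec (CommRingCat.of k))]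
    [IsProper (X ↘ Spec (CommRingCat.of k))] {y : X} (hy : IsClosed ({y} : Set X)) :
    Groth.L22.CurveDeg.Det.ptEuler k y = 1 := by
  rw [Groth.L21.Disc.ptEuler_eq_residueDegree k hy]
  letI : (Spec (CommRingCat.of k)).Over (Spec (CommRingCat.of k)) := ⟨𝟙 _⟩
  haveI : LocallyOfFiniteType (Spec (CommRingCat.of k) ↘ Spec (CommRingCat.of k)) :=
    inferInstanceAs (LocallyOfFiniteType (𝟙 _))
  rw [Groth.L13.UnramDegree.residueDegree_closed (k := k) (X ↘ Spec (CommRingCat.of k)) (Category.comp_id _) hy]
  · rfl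
  · rw [Set.subsingleton_of_subsingleton.eq_singleton_of_mem (Set.mem_univ ((X ↘ Spec (CommRingCat.of k)).base y))
      |>.symm]
    exact isClosed_univ

variable (hι : i ≫ CohB1.ProjSpace.toSpec 2 k = CohB1.ProjSpace.toSpec 1 k)

/-- The Euler characteristic of the restricted cokernel counts the points on the line. -/
theorem euler_CL (hC : Coh.IsCoh (CL P i)) :
    Curv2.euler k (CohB1.ProjSpace 1 k) (CL P i) = (Nat.card {j : Fin m // P.pt j ∈ Set.range i.base} : ℤ) := by
  classical
  haveI := Groth.L22.Reg.isProper_over_proj (k := k) (n := 1)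
  have hc : ∀ j : {j : Fin m // P.pt j ∈ Set.range i.base}, ∃ t, i.base t = P.pt j.1 := fun j => j.2
  choose t ht using hc
  have htinj : Function.Injective t := fun a b h => Subtype.ext (P.inj (by rw [← ht a, ← ht b, h]))
  let T : Finset ↥(CohB1.ProjSpace 1 k) := Finset.univ.image t
  have hT : ∀ y ∈ T, IsClosed ({y} : Set ↥(CohB1.ProjSpace 1 k)) := fun y hy => by
    obtain ⟨j, -, rfl⟩ := Finset.mem_image.1 hy
    have : ({t j} : Set ↥(CohB1.ProjSpace 1 k)) = i.base ⁻¹' {P.pt j.1} := by
      ext z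
      simp only [Set.mem_singleton_iff, Set.mem_preimage, ← ht j]
      exact ⟨fun h => congrArg i.base h, fun h => i.isClosedEmbedding.injective h⟩
    rw [this]
    exact (P.closed j.1).preimage i.continuous
  have hs : CohB1.support (CL P i) ⊆ (T : Set ↥(CohB1.ProjSpace 1 k)) := fun y hy => by
    by_contra hn
    refine len_CL_eq_zero P i (fun j hj => hn ?_) hy
    refine Finset.mem_coe.2 (Finset.mem_image.2 ⟨⟨j, y, hj⟩, Finset.mem_univ _, i.isClosedEmbedding.injective ?_⟩)
    exact (ht _).trans hj.symm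
  rw [Groth.L22.CurveDeg.Det.euler_eq_sum_points k T hT hC hs, Finset.sum_image fun a _ b _ h => htinj h,
    Finset.sum_congr rfl fun j hj => by
      rw [len_CL_eq_one P i (ht j), ptEuler_eq_one _ (hT _ (Finset.mem_image_of_mem t hj))]]
  simp [Nat.card_eq_fintype_card]

end Groth.L03.VBPn.Jump
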